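import Cfsg.Agent.Lib.KnownB.O8mMult.Data
import Cfsg.Agent.Lib.KnownB.O8Mult.Chain

/-! The codes in the isometry group used by the chain checks. -/

set_option autoImplicit false
set_option maxRecDepth 100000

namespace CfsgLib.KnownB.O8mMult

open Matrix CfsgLib.KnownB.Mult
open CfsgLib.KnownB.Sp62 (Lvl Respects sift)
open CfsgLib.KnownB.O8Mult (InvRespects)

/-- codes in the isometry group -/
def codeA : Code Iso MB where
  rep := Rep
  mul := mulB
  one := oneB
  eqc := eqB
  okc _ := false
  rep_mul := Rep.mul
  rep_one := rep_one
  eq_iff := eqB_iff_eq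
  exists_rep h := Bool.noConfusion h

theorem respects : Respects codeA := fun _ _ _ h e => Rep.of_eqB h e

theorem invRespects : InvRespects codeA := by
  intro a x y ha h
  have h' : eqB (mulB y x) oneB = true := h
  rw [eqB_iff, decB_mul, decB_one] at h'
  refine (left_inv_eq_right_inv h' ?_).symm
  rw [← ha, ← mat_mul, mul_inv_cancel, mat_one]

/-- the image of a coordinate vector -/
def pt (b : ℕ) (x : MB) : ℕ := appB x (2 ^ b) % 256

/-- the last level -/
def fin0 : List MB := [oneB]

/-- no generators at the last level -/
def finG : List MB := []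

end CfsgLib.KnownB.O8mMult
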