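import Cfsg.Agent.Lib.KnownB.O8mMult.Code
import Cfsg.Agent.Lib.KnownB.Sp62.Chain
import Cfsg.Agent.Lib.KnownB.Mult.Levels

/-! Generated certificates for `Ω⁻₈(2)`. -/

set_option autoImplicit false
set_option maxRecDepth 100000

namespace CfsgLib.KnownB.O8mMult

open CfsgLib.KnownB.Mult CfsgLib.KnownB.Sp62

/-- the elements of the certificate at `2` with inverses -/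
def invs2 : List (MB × MB) := [
    (⟨1, 3, 4, 24, 16, 32, 64, 128⟩, ⟨1, 3, 4, 24, 16, 32, 64, 128⟩),
    (⟨1, 2, 5, 40, 16, 32, 64, 128⟩, ⟨1, 2, 5, 40, 16, 32, 64, 128⟩),
    (⟨1, 2, 4, 77, 16, 33, 64, 129⟩, ⟨1, 2, 4, 77, 16, 33, 64, 129⟩),
    (⟨1, 2, 4, 141, 16, 33, 65, 128⟩, ⟨1, 2, 4, 141, 16, 33, 65, 128⟩),
    (⟨1, 2, 4, 12, 16, 33, 64, 128⟩, ⟨1, 2, 4, 12, 16, 33, 64, 128⟩),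
    (⟨1, 2, 4, 10, 17, 32, 64, 128⟩, ⟨1, 2, 4, 10, 17, 32, 64, 128⟩),
    (⟨1, 2, 6, 8, 48, 32, 64, 128⟩, ⟨1, 2, 6, 8, 48, 32, 64, 128⟩),
    (⟨1, 2, 4, 8, 150, 34, 66, 128⟩, ⟨1, 2, 4, 8, 150, 34, 66, 128⟩),
    (⟨1, 2, 4, 8, 86, 34, 64, 130⟩, ⟨1, 2, 4, 8, 86, 34, 64, 130⟩),
    (⟨1, 2, 4, 8, 20, 34, 64, 128⟩, ⟨1, 2, 4, 8, 20, 34, 64, 128⟩),
    (⟨1, 2, 4, 8, 16, 100, 64, 132⟩, ⟨1, 2, 4, 8, 16, 100, 64, 132⟩),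
    (⟨1, 2, 4, 8, 16, 164, 68, 128⟩, ⟨1, 2, 4, 8, 16, 164, 68, 128⟩),
    (⟨2, 1, 4, 16, 8, 32, 64, 128⟩, ⟨2, 1, 4, 16, 8, 32, 64, 128⟩),
    (⟨1, 4, 2, 8, 32, 16, 64, 128⟩, ⟨1, 4, 2, 8, 32, 16, 64, 128⟩),
    (⟨1, 2, 32, 8, 16, 4, 64, 192⟩, ⟨1, 2, 32, 8, 16, 4, 64, 192⟩)]

/-- a conjugator at `2` -/
def conj2_0 : MB := ⟨2, 1, 4, 16, 8, 32, 64, 128⟩

/-- a conjugator at `2` -/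
def conj2_1 : MB := ⟨1, 4, 2, 8, 32, 16, 64, 128⟩

/-- a conjugator at `2` -/
def conj2_2 : MB := ⟨1, 2, 32, 8, 16, 4, 64, 192⟩

/-- certificate at `2` -/
def cert2 : Cert MB where
  n := 12
  σ := [⟨1, 3, 4, 24, 16, 32, 64, 128⟩,
    ⟨1, 2, 5, 40, 16, 32, 64, 128⟩,
    ⟨1, 2, 4, 77, 16, 33, 64, 129⟩,
    ⟨1, 2, 4, 141, 16, 33, 65, 128⟩,
    ⟨1, 2, 4, 12, 16, 33, 64, 128⟩,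
    ⟨1, 2, 4, 10, 17, 32, 64, 128⟩,
    ⟨1, 2, 6, 8, 48, 32, 64, 128⟩,
    ⟨1, 2, 4, 8, 150, 34, 66, 128⟩,
    ⟨1, 2, 4, 8, 86, 34, 64, 130⟩,
    ⟨1, 2, 4, 8, 20, 34, 64, 128⟩,
    ⟨1, 2, 4, 8, 16, 100, 64, 132⟩,
    ⟨1, 2, 4, 8, 16, 164, 68, 128⟩]
  rules := [([0, 0], []),
    ([1, 1], []),
    ([2, 2], []),
    ([3, 3], []),
    ([4, 4], []),
    ([5, 5], []),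
    ([6, 6], []),
    ([7, 7], []),
    ([8, 8], []),
    ([9, 9], []),
    ([10, 10], []),
    ([11, 11], []),
    ([1, 0], [0, 1]),
    ([2, 0], [0, 2]),
    ([3, 0], [0, 3]),
    ([4, 0], [0, 4]),
    ([5, 0], [0, 5]),
    ([6, 0], [0, 1, 6]),
    ([7, 0], [0, 3, 5, 7]),
    ([8, 0], [0, 2, 5, 8]),
    ([9, 0], [0, 4, 9]),
    ([10, 0], [0, 10]),
    ([11, 0], [0, 11]),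
    ([2, 1], [1, 2]),
    ([3, 1], [1, 3]),
    ([4, 1], [1, 4]),
    ([5, 1], [1, 5]),
    ([6, 1], [1, 6]),
    ([7, 1], [1, 5, 7]),
    ([8, 1], [1, 5, 8]),
    ([9, 1], [1, 5, 9]),
    ([10, 1], [1, 2, 10]),
    ([11, 1], [1, 3, 11]),
    ([3, 2], [2, 3]),
    ([4, 2], [2, 4]),
    ([5, 2], [2, 5]),
    ([6, 2], [2, 5, 6]),
    ([7, 2], [2, 5, 7]),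
    ([8, 2], [2, 8]),
    ([9, 2], [2, 9]),
    ([10, 2], [2, 10]),
    ([11, 2], [2, 4, 11]),
    ([4, 3], [3, 4]),
    ([5, 3], [3, 5]),
    ([6, 3], [3, 5, 6]),
    ([7, 3], [3, 7]),
    ([8, 3], [3, 5, 8]),
    ([9, 3], [3, 9]),
    ([10, 3], [3, 4, 10]),
    ([11, 3], [3, 11]),
    ([5, 4], [4, 5]),
    ([6, 4], [4, 5, 6]),
    ([7, 4], [4, 7]),
    ([8, 4], [4, 8]),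
    ([9, 4], [4, 9]),
    ([10, 4], [4, 10]),
    ([11, 4], [4, 11]),
    ([6, 5], [5, 6]),
    ([7, 5], [5, 7]),
    ([8, 5], [5, 8]),
    ([9, 5], [5, 9]),
    ([10, 5], [5, 10]),
    ([11, 5], [5, 11]),
    ([7, 6], [6, 7]),
    ([8, 6], [6, 8]),
    ([9, 6], [6, 9]),
    ([10, 6], [6, 8, 10]),
    ([11, 6], [6, 7, 11]),
    ([8, 7], [7, 8]),
    ([9, 7], [7, 9]),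
    ([10, 7], [7, 9, 10]),
    ([11, 7], [7, 11]),
    ([9, 8], [8, 9]),
    ([10, 8], [8, 10]),
    ([11, 8], [8, 9, 11]),
    ([10, 9], [9, 10]),
    ([11, 9], [9, 11]),
    ([11, 10], [10, 11])]
  conjs := [(conj2_0, [1], [6]),
    (conj2_0, [2], [8]),
    (conj2_0, [3], [7]),
    (conj2_0, [4], [9]),
    (conj2_0, [5], [5]),
    (conj2_0, [6], [1]),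
    (conj2_0, [7], [3]),
    (conj2_0, [8], [2]),
    (conj2_0, [9], [4]),
    (conj2_0, [10], [10]),
    (conj2_0, [11], [11]),
    (conj2_1, [0], [1]),
    (conj2_1, [1], [0]),
    (conj2_1, [2], [2, 4, 5]),
    (conj2_1, [3], [3, 4, 5]),
    (conj2_1, [5], [4]),
    (conj2_1, [4], [5]),
    (conj2_1, [8, 9], [10]),
    (conj2_1, [7, 9], [11]),
    (conj2_1, [9], [9]),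
    (conj2_1, [10], [8, 9]),
    (conj2_1, [11], [7, 9]),
    (conj2_2, [0], [0]),
    (conj2_2, [4], [1]),
    (conj2_2, [3, 4, 5], [2, 3, 5]),
    (conj2_2, [2, 4, 5], [2, 4, 5]),
    (conj2_2, [1], [4]),
    (conj2_2, [5], [5]),
    (conj2_2, [6], [9]),
    (conj2_2, [9], [6]),
    (conj2_2, [8, 9], [8, 9]),
    (conj2_2, [7, 9], [7, 8])]
  rows := [(.ovl [6] 0 [], [0, 1, 0, 0, 0, 0, 0, 0, 0, 0, 0, 0, 1, 0, 0, 0, 0, 0]),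
    (.ovl [7] 0 [], [0, 0, 0, 1, 0, 1, 0, 0, 0, 0, 0, 0, 0, 0, 1, 0, 1, 0, 0, 0, 0, 0, 0, 0, 0, 0, 0, 0, 0, 0, 0, 0, 0, 0, 0, 0, 0, 0, 0, 0, 0, 0, 0, 1]),
    (.ovl [8] 0 [], [0, 0, 1, 0, 0, 1, 0, 0, 0, 0, 0, 0, 0, 1, 0, 0, 1, 0, 0, 0, 0, 0, 0, 0, 0, 0, 0, 0, 0, 0, 0, 0, 0, 0, 0, 1]),
    (.ovl [9] 0 [], [0, 0, 0, 0, 1, 0, 0, 0, 0, 0, 0, 0, 0, 0, 0, 1, 0, 0, 0, 0, 0]),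
    (.ovl [7] 1 [], [0, 0, 0, 0, 0, 1, 0, 0, 0, 0, 0, 0, 0, 0, 0, 0, 0, 0, 0, 0, 0, 0, 0, 0, 0, 0, 1, 0, 0]),
    (.ovl [10] 1 [], [0, 0, 1, 0, 0, 0, 0, 0, 0, 0, 0, 0, 0, 0, 0, 0, 0, 0, 0, 0, 0, 0, 0, 1, 0, 0, 0, 0, 0, 0, 0, 0]),
    (.ovl [11] 1 [], [0, 0, 0, 1, 0, 0, 0, 0, 0, 0, 0, 0, 0, 0, 0, 0, 0, 0, 0, 0, 0, 0, 0, 0, 1, 0, 0, 0, 0, 0, 0, 0, 0]),
    (.ovl [6] 2 [], [0, 0, 0, 0, 0, 1, 0, 0, 0, 0, 0, 0, 0, 0, 0, 0, 0, 0, 0, 0, 0, 0, 0, 0, 0, 0, 0, 0, 0, 0, 0, 0, 0, 0, 0, 1, 0]),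
    (.ovl [11] 2 [], [0, 0, 0, 0, 1, 0, 0, 0, 0, 0, 0, 0, 0, 0, 0, 0, 0, 0, 0, 0, 0, 0, 0, 0, 0, 0, 0, 0, 0, 0, 0, 0, 0, 0, 1, 0, 0, 0, 0, 0, 0, 0]),
    (.ovl [6] 3 [], [0, 0, 0, 0, 0, 1, 0, 0, 0, 0, 0, 0, 0, 0, 0, 0, 0, 0, 0, 0, 0, 0, 0, 0, 0, 0, 0, 0, 0, 0, 0, 0, 0, 0, 0, 0, 0, 0, 0, 0, 0, 0, 0, 1, 0]),
    (.ovl [10] 3 [], [0, 0, 0, 0, 1, 0, 0, 0, 0, 0, 0, 0, 0, 0, 0, 0, 0, 0, 0, 0, 0, 0, 0, 0, 0, 0, 0, 0, 0, 0, 0, 0, 0, 0, 0, 0, 0, 0, 0, 0, 0, 0, 1, 0, 0, 0, 0, 0, 0]),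
    (.ovl [6] 4 [], [0, 0, 0, 0, 0, 1, 0, 0, 0, 0, 0, 0, 0, 0, 0, 0, 0, 0, 0, 0, 0, 0, 0, 0, 0, 0, 0, 0, 0, 0, 0, 0, 0, 0, 0, 0, 0, 0, 0, 0, 0, 0, 0, 0, 0, 0, 0, 0, 0, 0, 1, 0]),
    (.ovl [10] 6 [], [0, 0, 0, 0, 0, 0, 0, 0, 1, 0, 0, 0, 0, 0, 0, 0, 0, 0, 0, 0, 0, 0, 0, 0, 0, 0, 0, 0, 0, 0, 0, 0, 0, 0, 0, 0, 0, 0, 0, 0, 0, 0, 0, 0, 0, 0, 0, 0, 0, 0, 0, 0, 0, 0, 0, 0, 0, 0, 0, 0, 0, 0, 0, 0, 1, 0, 0]),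
    (.ovl [11] 6 [], [0, 0, 0, 0, 0, 0, 0, 1, 0, 0, 0, 0, 0, 0, 0, 0, 0, 0, 0, 0, 0, 0, 0, 0, 0, 0, 0, 0, 0, 0, 0, 0, 0, 0, 0, 0, 0, 0, 0, 0, 0, 0, 0, 0, 0, 0, 0, 0, 0, 0, 0, 0, 0, 0, 0, 0, 0, 0, 0, 0, 0, 0, 0, 1, 0, 0, 0, 0]),
    (.ovl [10] 7 [], [0, 0, 0, 0, 0, 0, 0, 0, 0, 1, 0, 0, 0, 0, 0, 0, 0, 0, 0, 0, 0, 0, 0, 0, 0, 0, 0, 0, 0, 0, 0, 0, 0, 0, 0, 0, 0, 0, 0, 0, 0, 0, 0, 0, 0, 0, 0, 0, 0, 0, 0, 0, 0, 0, 0, 0, 0, 0, 0, 0, 0, 0, 0, 0, 0, 0, 0, 0, 0, 1, 0]),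
    (.ovl [11] 8 [], [0, 0, 0, 0, 0, 0, 0, 0, 0, 1, 0, 0, 0, 0, 0, 0, 0, 0, 0, 0, 0, 0, 0, 0, 0, 0, 0, 0, 0, 0, 0, 0, 0, 0, 0, 0, 0, 0, 0, 0, 0, 0, 0, 0, 0, 0, 0, 0, 0, 0, 0, 0, 0, 0, 0, 0, 0, 0, 0, 0, 0, 0, 0, 0, 0, 0, 0, 0, 0, 0, 0, 0, 1, 0, 0]),
    (.ovl [7] 12 [], [0, 0, 0, 0, 0, 0, 0, 0, 0, 0, 0, 0, 0, 0, 0, 0, 1, 0, 0, 0, 0, 0, 0, 0, 1, 0, 1, 0, 0, 0, 0, 0, 0, 0, 0, 0, 0, 0, 0, 0, 0, 0, 0, 1]),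
    (.ovl [8] 12 [], [0, 0, 0, 0, 0, 0, 0, 0, 0, 0, 0, 0, 0, 0, 0, 0, 1, 0, 0, 0, 0, 0, 0, 1, 0, 0, 1, 0, 0, 0, 0, 0, 0, 0, 0, 1]),
    (.ovl [9] 12 [], [0, 0, 0, 0, 0, 0, 0, 0, 0, 0, 0, 0, 0, 0, 0, 0, 1, 0, 0, 0, 0, 0, 0, 0, 0, 1, 0, 0, 0, 0, 0, 0, 0, 0, 0, 0, 0, 0, 0, 0, 0, 0, 0, 0, 0, 0, 0, 0, 0, 0, 1]),
    (.ovl [6] 13 [], [0, 0, 0, 0, 0, 0, 0, 0, 0, 0, 0, 0, 0, 0, 0, 0, 1, 0, 0, 0, 0, 0, 0, 1, 0, 0, 1, 0, 0, 0, 0, 0, 0, 0, 0, 0, 0]),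
    (.ovl [7] 13 [], [0, 0, 0, 0, 0, 0, 0, 0, 0, 0, 0, 0, 0, 0, 0, 0, 1, 0, 0, 0, 0, 0, 0, 0, 0, 0, 0, 0, 0, 0, 0, 0, 0, 1, 0, 1, 0, 0, 0, 0, 0, 0, 0, 1]),
    (.ovl [9] 13 [], [0, 0, 0, 0, 0, 0, 0, 0, 0, 0, 0, 0, 0, 0, 0, 0, 0, 0, 0, 0, 0, 0, 0, 0, 0, 0, 0, 0, 0, 0, 0, 0, 0, 0, 1, 0, 0, 0, 0, 0]),
    (.ovl [6] 17 [], [0, 1, 0, 0, 0, 0, 0, 0, 0, 0, 0, 0, 0, 0, 0, 0, 0, 0, 0, 0, 0, 0, 0, 0, 0, 0, 0, 1]),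
    (.ovl [7] 17 [], [0, 0, 0, 0, 0, 0, 0, 0, 0, 0, 0, 0, 0, 0, 0, 0, 0, 0, 0, 0, 0, 0, 0, 0, 1, 0, 1, 0, 1, 0, 0, 0, 0, 0, 0, 0, 0, 0, 0, 0, 0, 0, 0, 0, 1, 0, 0, 0, 0, 0, 0, 0, 0, 0, 0, 0, 0, 1, 0, 0, 0, 0, 0, 0]),
    (.ovl [8] 17 [], [0, 0, 0, 0, 0, 0, 0, 0, 0, 0, 0, 0, 0, 0, 0, 0, 0, 0, 0, 0, 0, 0, 0, 1, 0, 0, 1, 0, 0, 1, 0, 0, 0, 0, 0, 0, 1, 0, 0, 0, 0, 0, 0, 0, 0, 0, 0, 0, 0, 0, 0, 0, 0, 0, 0, 0, 0, 1, 0, 0, 0, 0, 0, 0, 0]),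
    (.ovl [9] 17 [], [0, 0, 0, 0, 0, 0, 0, 0, 0, 0, 0, 0, 0, 0, 0, 0, 0, 0, 0, 0, 0, 0, 0, 0, 0, 1, 0, 0, 0, 0, 1, 0, 0, 0, 0, 0, 0, 0, 0, 0, 0, 0, 0, 0, 0, 0, 0, 0, 0, 0, 0, 1, 0, 0, 0, 0, 0, 0, 0, 0, 0, 0, 0, 0, 0, 0]),
    (.ovl [10] 17 [], [0, 0, 0, 0, 0, 1, 0, 0, 0, 0, 0, 0, 0, 0, 0, 0, 0, 0, 0, 1, 0, 0, 0, 0, 0, 0, 0, 0, 0, 0, 0, 1, 0, 0, 0, 0, 1, 0, 0, 0, 0, 0, 0, 0, 0, 0, 0, 0, 0, 0, 0, 0, 0, 0, 0, 0, 0, 1, 0, 0, 0, 0, 0, 0, 0, 0, 0]),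
    (.ovl [11] 17 [], [0, 0, 0, 0, 0, 1, 0, 0, 0, 0, 0, 0, 0, 0, 0, 0, 0, 0, 1, 0, 0, 0, 0, 0, 0, 0, 0, 0, 0, 0, 0, 0, 1, 0, 0, 0, 0, 0, 0, 0, 0, 0, 0, 0, 1, 0, 0, 0, 0, 0, 0, 0, 0, 0, 0, 0, 0, 1, 0, 0, 0, 0, 0, 0, 0, 0, 0, 0]),
    (.ovl [7] 18 [], [0, 0, 0, 1, 0, 1, 0, 0, 0, 0, 0, 0, 0, 0, 0, 0, 0, 0, 0, 0, 0, 0, 0, 0, 0, 0, 0, 0, 0, 0, 0, 0, 0, 0, 0, 0, 0, 0, 0, 0, 0, 0, 0, 1, 0, 1, 0, 0, 0, 0, 0, 0, 0, 0, 0, 0, 0, 0, 1]),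
    (.ovl [8] 18 [], [0, 0, 0, 0, 0, 0, 0, 0, 0, 0, 0, 0, 0, 0, 0, 0, 0, 0, 0, 0, 0, 0, 0, 0, 0, 0, 0, 0, 0, 0, 0, 0, 0, 1, 0, 1, 0, 1, 0, 0, 0, 0, 0, 1, 0, 0, 1, 0, 0, 0, 0, 0, 0, 0, 0, 0, 0, 0, 1, 1, 0, 0, 0, 0, 0, 0, 0, 0, 0]),
    (.ovl [9] 18 [], [0, 0, 0, 0, 0, 0, 0, 0, 0, 0, 0, 0, 0, 0, 0, 0, 0, 0, 0, 0, 0, 0, 0, 0, 0, 0, 0, 0, 0, 0, 0, 0, 0, 0, 0, 0, 0, 0, 0, 0, 0, 0, 1, 0, 0, 0, 0, 1, 0, 0, 1, 0, 1, 0, 0, 0, 0, 0, 0, 0, 1, 0, 0, 0, 0, 0, 0, 0, 0, 0]),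
    (.ovl [10] 18 [], [0, 0, 0, 0, 0, 0, 0, 0, 0, 0, 0, 0, 0, 0, 0, 0, 0, 0, 0, 0, 1, 0, 0, 0, 0, 0, 0, 0, 0, 0, 0, 0, 0, 0, 0, 0, 0, 0, 0, 0, 0, 0, 0, 0, 0, 0, 0, 0, 1, 0, 1, 0, 1, 0, 0, 0, 0, 0, 0, 0, 0, 1, 0, 0, 0, 0, 0, 0, 0, 0, 0]),
    (.ovl [11] 18 [], [0, 0, 0, 0, 0, 0, 0, 0, 0, 0, 0, 0, 0, 0, 0, 0, 0, 0, 0, 0, 0, 0, 0, 0, 0, 0, 0, 0, 0, 0, 0, 0, 0, 0, 0, 0, 0, 0, 0, 0, 0, 0, 0, 0, 0, 0, 0, 0, 0, 1, 0, 0, 0, 0, 0, 0, 0, 0, 0, 0, 0, 0, 1, 0, 0, 0, 0, 0, 0, 0, 0, 0]),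
    (.ovl [8] 19 [], [0, 0, 1, 0, 0, 1, 0, 0, 0, 0, 0, 0, 0, 0, 0, 0, 0, 0, 0, 0, 0, 0, 0, 0, 0, 0, 0, 0, 0, 0, 0, 0, 0, 0, 0, 1, 0, 0, 1, 0, 0, 0, 0, 0, 0, 0, 0, 0, 0, 0, 0, 0, 0, 0, 0, 0, 0, 0, 0, 1]),
    (.ovl [9] 19 [], [0, 0, 0, 0, 0, 0, 0, 0, 0, 0, 0, 0, 0, 0, 0, 0, 0, 0, 0, 0, 0, 0, 0, 0, 0, 0, 0, 0, 0, 0, 0, 0, 0, 0, 1, 0, 0, 0, 0, 1, 0, 0, 0, 0, 0, 0, 0, 0, 0, 0, 1, 0, 0, 1, 0, 0, 0, 0, 0, 0, 1, 0, 0, 0, 0, 0, 0, 0, 0, 0, 0, 0, 0]),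
    (.ovl [10] 19 [], [0, 0, 0, 0, 0, 0, 0, 0, 0, 0, 0, 0, 0, 0, 0, 0, 0, 0, 0, 0, 0, 0, 0, 0, 0, 0, 0, 0, 0, 0, 0, 0, 0, 0, 0, 0, 0, 0, 0, 0, 1, 0, 0, 0, 0, 0, 0, 0, 0, 0, 0, 0, 0, 0, 0, 0, 0, 0, 0, 0, 0, 1, 0, 0, 0, 0, 0, 0, 0, 0, 0, 0, 0, 0]),
    (.ovl [11] 19 [], [0, 0, 0, 0, 0, 0, 0, 0, 0, 0, 0, 0, 0, 0, 0, 0, 0, 0, 0, 0, 1, 0, 0, 0, 0, 0, 0, 0, 0, 0, 0, 0, 0, 0, 0, 0, 0, 0, 0, 0, 0, 1, 0, 0, 0, 0, 0, 0, 0, 0, 1, 0, 0, 1, 0, 0, 0, 0, 0, 0, 0, 0, 1, 0, 0, 0, 0, 0, 0, 0, 0, 0, 0, 0, 0]),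
    (.ovl [9] 20 [], [0, 0, 0, 0, 1, 0, 0, 0, 0, 0, 0, 0, 0, 0, 0, 0, 0, 0, 0, 0, 0, 0, 0, 0, 0, 0, 0, 0, 0, 0, 0, 0, 0, 0, 0, 0, 0, 0, 0, 0, 0, 0, 0, 0, 0, 0, 0, 0, 0, 0, 0, 0, 0, 0, 1]),
    (.ovl [10] 20 [], [0, 0, 0, 0, 0, 0, 0, 0, 0, 0, 0, 0, 0, 0, 0, 0, 0, 0, 0, 0, 0, 0, 0, 0, 0, 0, 0, 0, 0, 0, 0, 0, 0, 0, 0, 0, 0, 0, 0, 0, 0, 0, 0, 0, 0, 0, 0, 0, 0, 0, 0, 0, 0, 0, 0, 1, 0, 0, 0, 0, 0, 0, 0, 0, 0, 0, 0, 0, 0, 0, 0, 0, 0, 0, 0, 0]),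
    (.ovl [11] 20 [], [0, 0, 0, 0, 0, 0, 0, 0, 0, 0, 0, 0, 0, 0, 0, 0, 0, 0, 0, 0, 0, 0, 0, 0, 0, 0, 0, 0, 0, 0, 0, 0, 0, 0, 0, 0, 0, 0, 0, 0, 0, 0, 0, 0, 0, 0, 0, 0, 0, 0, 0, 0, 0, 0, 0, 0, 1, 0, 0, 0, 0, 0, 0, 0, 0, 0, 0, 0, 0, 0, 0, 0, 0, 0, 0, 0, 0]),
    (.ovl [7] 27 [], [0, 0, 0, 0, 0, 0, 0, 0, 0, 0, 0, 0, 0, 0, 0, 0, 0, 0, 0, 0, 0, 0, 0, 0, 0, 0, 0, 0, 0, 0, 0, 0, 0, 0, 0, 0, 0, 0, 0, 0, 0, 0, 0, 0, 0, 0, 0, 0, 0, 0, 0, 0, 0, 0, 0, 0, 0, 1, 0, 0, 0, 0, 0, 0]),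
    (.ovl [10] 27 [], [0, 0, 0, 0, 0, 1, 0, 0, 0, 0, 0, 0, 0, 0, 0, 0, 0, 0, 0, 0, 0, 0, 0, 0, 0, 0, 0, 0, 0, 1, 0, 0, 0, 0, 0, 1, 1, 0, 1, 0, 0, 0, 0, 0, 0, 0, 0, 0, 0, 0, 0, 0, 0, 0, 0, 0, 0, 1, 0, 0, 0, 0, 0, 0, 0, 0, 0]),
    (.ovl [11] 27 [], [0, 0, 0, 0, 0, 1, 0, 0, 0, 0, 0, 0, 0, 0, 0, 0, 0, 0, 0, 0, 0, 0, 0, 0, 0, 0, 0, 0, 1, 0, 0, 0, 0, 0, 0, 0, 0, 0, 0, 0, 0, 0, 0, 1, 1, 1, 0, 0, 0, 0, 0, 0, 0, 0, 0, 0, 0, 1, 0, 0, 0, 0, 0, 0, 0, 0, 0, 0]),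
    (.ovl [9] 28 [], [0, 0, 0, 0, 0, 0, 0, 0, 0, 0, 0, 0, 0, 0, 0, 0, 0, 0, 0, 0, 0, 0, 0, 0, 0, 0, 0, 0, 0, 0, 0, 0, 0, 0, 0, 0, 0, 0, 0, 0, 0, 0, 0, 0, 0, 0, 0, 0, 0, 0, 0, 0, 0, 0, 0, 0, 0, 0, 1, 0, 1, 0, 0, 0, 0, 0, 0, 0, 0, 0]),
    (.ovl [10] 28 [], [0, 0, 0, 0, 0, 1, 0, 0, 0, 0, 0, 0, 0, 0, 0, 0, 0, 0, 0, 0, 0, 0, 0, 0, 0, 0, 0, 0, 0, 0, 1, 0, 0, 0, 0, 0, 0, 1, 0, 1, 0, 0, 0, 0, 0, 0, 0, 0, 0, 0, 0, 0, 0, 0, 0, 0, 0, 0, 1, 0, 0, 1, 0, 0, 0, 0, 0, 0, 0, 0, 0]),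
    (.ovl [11] 28 [], [0, 0, 0, 0, 0, 0, 0, 0, 0, 0, 0, 0, 0, 0, 0, 0, 0, 0, 0, 0, 0, 0, 0, 0, 0, 0, 0, 0, 0, 0, 0, 0, 0, 0, 0, 0, 0, 0, 0, 0, 0, 0, 0, 1, 0, 1, 0, 0, 0, 0, 0, 0, 0, 0, 0, 0, 0, 0, 0, 0, 0, 0, 1, 0, 0, 0, 0, 0, 0, 0, 0, 0]),
    (.ovl [10] 29 [], [0, 0, 0, 0, 0, 0, 0, 0, 0, 0, 0, 0, 0, 0, 0, 0, 0, 0, 0, 0, 0, 0, 0, 0, 0, 0, 0, 0, 0, 0, 0, 0, 0, 0, 0, 1, 0, 0, 1, 0, 0, 0, 0, 0, 0, 0, 0, 0, 0, 0, 0, 0, 0, 0, 0, 0, 0, 0, 0, 0, 0, 1, 0, 0, 0, 0, 0, 0, 0, 0, 0, 0, 0, 0]),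
    (.ovl [11] 29 [], [0, 0, 0, 0, 0, 1, 0, 0, 0, 0, 0, 0, 0, 0, 0, 0, 0, 0, 0, 0, 0, 0, 0, 0, 0, 0, 0, 0, 0, 0, 1, 0, 0, 0, 0, 0, 0, 0, 0, 0, 0, 0, 0, 0, 0, 0, 1, 1, 0, 0, 0, 0, 0, 0, 0, 0, 0, 0, 0, 1, 0, 0, 1, 0, 0, 0, 0, 0, 0, 0, 0, 0, 0, 0, 0]),
    (.ovl [10] 30 [], [0, 0, 0, 0, 0, 0, 0, 0, 0, 0, 0, 0, 0, 0, 0, 0, 0, 0, 0, 0, 0, 0, 0, 0, 0, 0, 0, 0, 0, 0, 0, 0, 0, 0, 0, 1, 0, 0, 0, 1, 0, 0, 0, 0, 0, 0, 0, 0, 0, 0, 0, 0, 0, 0, 0, 0, 0, 0, 0, 0, 0, 1, 0, 0, 0, 0, 0, 0, 0, 0, 0, 0, 0, 0, 0, 0]),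
    (.ovl [11] 30 [], [0, 0, 0, 0, 0, 0, 0, 0, 0, 0, 0, 0, 0, 0, 0, 0, 0, 0, 0, 0, 0, 0, 0, 0, 0, 0, 0, 0, 0, 0, 0, 0, 0, 0, 0, 0, 0, 0, 0, 0, 0, 0, 0, 1, 0, 0, 0, 1, 0, 0, 0, 0, 0, 0, 0, 0, 0, 0, 0, 0, 0, 0, 1, 0, 0, 0, 0, 0, 0, 0, 0, 0, 0, 0, 0, 0, 0]),
    (.ovl [10] 63 [], [0, 0, 0, 0, 0, 0, 0, 0, 0, 0, 0, 0, 0, 0, 0, 0, 0, 0, 0, 0, 0, 0, 0, 0, 0, 0, 0, 0, 0, 0, 0, 0, 0, 0, 0, 0, 0, 0, 0, 0, 0, 0, 0, 0, 0, 0, 0, 0, 0, 0, 0, 0, 0, 0, 0, 0, 0, 0, 0, 0, 0, 0, 0, 0, 0, 1, 0, 0, 1, 0, 0, 0, 1]),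
    (.ovl [10] 65 [], [0, 0, 0, 0, 0, 0, 0, 0, 0, 0, 0, 0, 0, 0, 0, 0, 0, 0, 0, 0, 0, 0, 0, 0, 0, 0, 0, 0, 0, 0, 0, 0, 0, 0, 0, 0, 0, 0, 0, 0, 0, 0, 0, 0, 0, 0, 0, 0, 0, 0, 0, 0, 0, 0, 0, 0, 0, 0, 0, 0, 0, 0, 0, 0, 0, 0, 0, 0, 0, 0, 0, 0, 1, 0, 0, 0]),
    (.ovl [10] 66 [], [0, 0, 0, 0, 0, 0, 0, 0, 1, 0, 0, 0, 0, 0, 0, 0, 0, 0, 0, 0, 0, 0, 0, 0, 0, 0, 0, 0, 0, 0, 0, 0, 0, 0, 0, 0, 0, 0, 0, 0, 0, 0, 0, 0, 0, 0, 0, 0, 0, 0, 0, 0, 0, 0, 0, 0, 0, 0, 0, 0, 0, 0, 0, 0, 0, 0, 0, 0, 0, 0, 0, 0, 0, 1]),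
    (.ovl [11] 66 [], [0, 0, 0, 0, 0, 0, 0, 0, 0, 0, 0, 0, 0, 0, 0, 0, 0, 0, 0, 0, 0, 0, 0, 0, 0, 0, 0, 0, 0, 0, 0, 0, 0, 0, 0, 0, 0, 0, 0, 0, 0, 0, 0, 0, 0, 0, 0, 0, 0, 0, 0, 0, 0, 0, 0, 0, 0, 0, 0, 0, 0, 0, 0, 0, 0, 0, 0, 0, 1, 0, 1, 0, 0, 0, 1, 0, 0, 0]),
    (.ovl [11] 67 [], [0, 0, 0, 0, 0, 0, 0, 1, 0, 0, 0, 0, 0, 0, 0, 0, 0, 0, 0, 0, 0, 0, 0, 0, 0, 0, 0, 0, 0, 0, 0, 0, 0, 0, 0, 0, 0, 0, 0, 0, 0, 0, 0, 0, 0, 0, 0, 0, 0, 0, 0, 0, 0, 0, 0, 0, 0, 0, 0, 0, 0, 0, 0, 0, 0, 0, 0, 0, 0, 0, 0, 1]),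
    (.ovl [10] 70 [], [0, 0, 0, 0, 0, 0, 0, 0, 0, 1, 0, 0, 0, 0, 0, 0, 0, 0, 0, 0, 0, 0, 0, 0, 0, 0, 0, 0, 0, 0, 0, 0, 0, 0, 0, 0, 0, 0, 0, 0, 0, 0, 0, 0, 0, 0, 0, 0, 0, 0, 0, 0, 0, 0, 0, 0, 0, 0, 0, 0, 0, 0, 0, 0, 0, 0, 0, 0, 0, 0, 0, 0, 0, 0, 0, 1]),
    (.ovl [11] 70 [], [0, 0, 0, 0, 0, 0, 0, 0, 0, 0, 0, 0, 0, 0, 0, 0, 0, 0, 0, 0, 0, 0, 0, 0, 0, 0, 0, 0, 0, 0, 0, 0, 0, 0, 0, 0, 0, 0, 0, 0, 0, 0, 0, 0, 0, 0, 0, 0, 0, 0, 0, 0, 0, 0, 0, 0, 0, 0, 0, 0, 0, 0, 0, 0, 0, 0, 0, 0, 0, 0, 0, 0, 0, 0, 0, 0, 1, 0]),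
    (.cnj 0 [0, 0] [], [0, 1, 0, 0, 0, 0, 1, 0, 0, 0, 0, 0, 0, 0, 0, 0, 0, 0, 0, 0, 0, 0, 0, 0, 0, 0, 0, 0, 0, 0, 0, 0, 0, 0, 0, 0, 0, 0, 0, 0, 0, 0, 0, 0, 0, 0, 0, 0, 0, 0, 0, 0, 0, 0, 0, 0, 0, 0, 0, 0, 0, 0, 0, 0, 0, 0, 0, 0, 0, 0, 0, 0, 0, 0, 0, 0, 0, 0, 0]),
    (.cnj 0 [1, 1] [], [0, 0, 1, 0, 0, 0, 0, 0, 1, 0, 0, 0, 0, 0, 0, 0, 0, 0, 0, 0, 0, 0, 0, 0, 0, 0, 0, 0, 0, 0, 0, 0, 0, 0, 0, 0, 0, 0, 0, 0, 0, 0, 0, 0, 0, 0, 0, 0, 0, 0, 0, 0, 0, 0, 0, 0, 0, 0, 0, 0, 0, 0, 0, 0, 0, 0, 0, 0, 0, 0, 0, 0, 0, 0, 0, 0, 0, 0, 0, 0]),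
    (.cnj 0 [2, 2] [], [0, 0, 0, 1, 0, 0, 0, 1, 0, 0, 0, 0, 0, 0, 0, 0, 0, 0, 0, 0, 0, 0, 0, 0, 0, 0, 0, 0, 0, 0, 0, 0, 0, 0, 0, 0, 0, 0, 0, 0, 0, 0, 0, 0, 0, 0, 0, 0, 0, 0, 0, 0, 0, 0, 0, 0, 0, 0, 0, 0, 0, 0, 0, 0, 0, 0, 0, 0, 0, 0, 0, 0, 0, 0, 0, 0, 0, 0, 0, 0, 0]),
    (.cnj 0 [3, 0] [0, 3], [0, 0, 0, 0, 0, 0, 0, 0, 0, 0, 0, 0, 0, 0, 0, 0, 0, 0, 0, 0, 0, 0, 0, 0, 0, 1, 0, 0, 0, 0, 0, 0, 0, 0, 0, 0, 0, 0, 0, 0, 0, 0, 0, 0, 0, 0, 0, 0, 0, 0, 0, 0, 0, 0, 0, 0, 0, 0, 0, 0, 0, 0, 0, 0, 0, 1, 0, 0, 0, 0, 0, 0, 0, 0, 0, 0, 0, 0, 0, 0, 0, 0]),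
    (.cnj 11 [11, 11] [], [1, 1, 0, 0, 0, 0, 0, 0, 0, 0, 0, 0, 0, 0, 0, 0, 0, 0, 0, 0, 0, 0, 0, 0, 0, 0, 0, 0, 0, 0, 0, 0, 0, 0, 0, 0, 0, 0, 0, 0, 0, 0, 0, 0, 0, 0, 0, 0, 0, 0, 0, 0, 0, 0, 0, 0, 0, 0, 0, 0, 0, 0, 0, 0, 0, 0, 0, 0, 0, 0, 0, 0, 0, 0, 0, 0, 0, 0, 0, 0, 0, 0, 0, 0, 0, 0, 0, 0, 0, 0]),
    (.cnj 11 [17, 17] [], [0, 0, 0, 0, 0, 0, 0, 0, 1, 1, 1, 0, 0, 0, 0, 0, 0, 0, 0, 0, 0, 0, 0, 0, 0, 0, 0, 0, 0, 0, 0, 0, 0, 0, 0, 0, 0, 0, 0, 0, 0, 0, 0, 0, 0, 0, 0, 0, 0, 0, 0, 0, 0, 0, 0, 0, 0, 0, 0, 0, 0, 0, 0, 0, 0, 0, 0, 0, 0, 0, 0, 0, 1, 0, 0, 0, 0, 0, 0, 0, 0, 0, 0, 0, 0, 0, 0, 0, 0, 0, 0, 0, 0, 0, 0, 0]),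
    (.cnj 11 [18, 18] [], [0, 0, 0, 0, 0, 0, 0, 1, 0, 1, 0, 1, 0, 0, 0, 0, 0, 0, 0, 0, 0, 0, 0, 0, 0, 0, 0, 0, 0, 0, 0, 0, 0, 0, 0, 0, 0, 0, 0, 0, 0, 0, 0, 0, 0, 0, 0, 0, 0, 0, 0, 0, 0, 0, 0, 0, 0, 0, 0, 0, 0, 0, 0, 0, 0, 0, 0, 0, 0, 1, 0, 0, 0, 0, 0, 0, 0, 0, 0, 0, 0, 0, 0, 0, 0, 0, 0, 0, 0, 0, 0, 0, 0, 0, 0, 0, 0]),
    (.cnj 11 [20, 11] [11, 20], [0, 0, 0, 0, 0, 1, 0, 0, 0, 0, 0, 0, 0, 0, 0, 0, 0, 0, 0, 0, 0, 1, 0, 0, 0, 0, 0, 0, 0, 1, 1, 0, 0, 0, 0, 0, 0, 0, 0, 0, 0, 0, 0, 0, 0, 0, 0, 0, 0, 0, 0, 0, 0, 0, 0, 0, 0, 0, 0, 1, 0, 0, 0, 0, 0, 0, 0, 0, 0, 0, 0, 0, 0, 0, 0, 0, 0, 0, 0, 0, 0, 0, 0, 0, 0, 0, 0, 0, 0, 0, 0, 0, 0, 0, 0, 0, 0, 0, 0]),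
    (.cnj 11 [21, 11] [11, 21], [0, 0, 0, 0, 0, 1, 0, 0, 0, 0, 0, 0, 0, 0, 0, 0, 0, 0, 0, 0, 0, 0, 1, 0, 0, 0, 0, 0, 1, 0, 1, 0, 0, 0, 0, 0, 0, 0, 0, 0, 0, 0, 0, 0, 0, 0, 0, 0, 0, 0, 0, 0, 0, 0, 0, 0, 0, 0, 1, 0, 0, 0, 0, 0, 0, 0, 0, 0, 0, 0, 0, 0, 0, 0, 0, 0, 0, 0, 0, 0, 0, 0, 0, 0, 0, 0, 0, 0, 0, 0, 0, 0, 0, 0, 0, 0, 0, 0, 0, 0]),
    (.cnj 11 [18, 17] [17, 18], [0, 0, 0, 0, 0, 0, 0, 0, 0, 0, 0, 0, 0, 0, 0, 0, 0, 0, 0, 0, 0, 0, 0, 0, 0, 0, 0, 0, 0, 0, 0, 0, 0, 0, 0, 0, 0, 0, 0, 0, 0, 0, 0, 0, 0, 0, 0, 0, 0, 0, 0, 0, 0, 0, 0, 0, 0, 0, 0, 0, 0, 0, 0, 0, 0, 0, 0, 0, 1, 1, 0, 0, 1, 0, 0, 0, 0, 1, 0, 0, 0, 0, 0, 0, 0, 0, 0, 0, 0, 0, 0, 0, 0, 0, 0, 0, 0]),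
    (.cnj 22 [23, 23] [], [0, 1, 0, 0, 1, 0, 0, 0, 0, 0, 0, 0, 0, 0, 0, 0, 0, 0, 0, 0, 0, 0, 0, 0, 0, 0, 0, 0, 0, 0, 0, 0, 0, 0, 0, 0, 0, 0, 0, 0, 0, 0, 0, 0, 0, 0, 0, 0, 0, 0, 0, 0, 0, 0, 0, 0, 0, 0, 0, 0, 0, 0, 0, 0, 0, 0, 0, 0, 0, 0, 0, 0, 0, 0, 0, 0, 0, 0, 0, 0, 0, 0, 0, 0, 0, 0, 0, 0, 0, 0, 0, 0, 0, 0, 0, 0, 0, 0, 0, 0, 0, 0]),
    (.cnj 22 [30, 23] [23, 30], [0, 0, 0, 0, 0, 1, 0, 0, 0, 0, 0, 0, 0, 0, 0, 0, 0, 0, 0, 0, 0, 0, 0, 0, 0, 0, 0, 0, 0, 1, 1, 0, 0, 0, 0, 0, 0, 0, 0, 0, 0, 0, 0, 0, 0, 0, 0, 0, 0, 0, 0, 0, 0, 1, 1, 0, 0, 0, 0, 1, 0, 0, 0, 0, 0, 0, 0, 0, 0, 0, 0, 0, 0, 0, 0, 0, 0, 0, 0, 0, 0, 0, 0, 0, 0, 0, 0, 0, 0, 0, 0, 0, 0, 0, 0, 0, 0, 0, 0, 0, 0, 0, 0, 0, 0, 0, 0, 0, 0]),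
    (.cnj 22 [31, 23] [23, 31], [0, 0, 0, 0, 0, 1, 0, 0, 0, 0, 0, 0, 0, 0, 0, 0, 0, 0, 0, 0, 0, 0, 0, 0, 0, 0, 0, 0, 1, 1, 0, 0, 0, 0, 0, 0, 0, 0, 0, 0, 0, 0, 0, 0, 0, 0, 0, 0, 0, 0, 0, 0, 1, 0, 1, 0, 0, 0, 1, 0, 0, 0, 0, 0, 0, 0, 0, 0, 0, 0, 0, 0, 0, 0, 0, 0, 0, 0, 0, 0, 0, 0, 0, 0, 0, 0, 0, 0, 0, 0, 0, 0, 0, 0, 0, 0, 0, 0, 0, 0, 0, 0, 0, 0, 0, 0, 0, 0, 0, 0])]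
  lam := [[], [0, 0, 0, 0, 0, 0, 0, 0, 0, 0, 0, 0, 0, 0, 0, 0, 0, 1], [0, 0, 0, 0, 0, 0, 0, 0, 0, 0, 0, 0, 0, 0, 0, 0, 0, 0, 0, 1, 0, 0, 0, 0, 0, 0, 0, 0, 1], [0, 0, 0, 0, 0, 0, 0, 0, 0, 0, 0, 0, 0, 0, 0, 0, 0, 0, 1, 0, 0, 0, 0, 0, 0, 0, 0, 0, 1], [0, 0, 0, 0, 0, 0, 0, 0, 0, 0, 0, 0, 0, 0, 0, 0, 0, 0, 0, 0, 1], [0, 0, 0, 0, 0, 0, 0, 0, 0, 0, 0, 0, 0, 0, 0, 0, 0, 0, 0, 0, 0, 0, 0, 0, 0, 0, 0, 0, 1], [], [0, 0, 0, 0, 0, 0, 0, 0, 0, 0, 0, 0, 0, 0, 0, 0, 0, 0, 0, 0, 0, 0, 0, 0, 0, 0, 0, 0, 0, 0, 0, 0, 0, 0, 0, 0, 0, 0, 0, 0, 0, 0, 0, 0, 0, 0, 0, 0, 0, 0, 0, 0, 0, 0, 0, 0, 0, 0, 0, 0, 0, 0, 0, 0, 0, 0, 0, 1], [0, 0, 0, 0, 0, 0, 0, 0, 0, 0, 0, 0, 0, 0, 0, 0, 0, 0, 0, 0, 0, 0, 0, 0, 0, 0, 0, 0, 0, 0, 0, 0,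 0, 0, 0, 0, 0, 0, 0, 0, 0, 0, 0, 0, 0, 0, 0, 0, 0, 0, 0, 0, 0, 0, 0, 0, 0, 0, 0, 0, 0, 0, 0, 0, 0, 0, 1], [0, 0, 0, 0, 0, 0, 0, 0, 0, 0, 0, 0, 0, 0, 0, 0, 0, 0, 0, 0, 0, 0, 0, 0, 0, 0, 0, 0, 0, 0, 0, 0, 0, 0, 0, 0, 0, 0, 0, 0, 0, 0, 0, 0, 0, 0, 0, 0, 0, 0, 0, 0, 0, 0, 0, 0, 0, 0, 0, 0, 0, 0, 0, 0, 0, 0, 0, 0, 0, 0, 1], [], []]
  combos := [[(8, 1), (21, 1), (61, 1), (67, 1)],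
    [(8, 1), (21, 1), (67, 1)],
    [(4, 1), (5, 1), (9, 1), (17, 1), (20, 1), (29, 1), (44, 1), (47, 1), (48, 1), (49, 1)],
    [(4, 1), (6, 1), (7, 1), (16, 1), (20, 1), (29, 1), (44, 1), (47, 1), (48, 1), (49, 1)],
    [(8, 1), (21, 1)],
    [(7, 1), (17, 1), (19, 1)],
    [(8, 1), (21, 1), (57, 1), (67, 1)],
    [(4, 1), (6, 1), (7, 1), (16, 1), (20, 1), (29, 1), (44, 1), (47, 1), (48, 1), (49, 1), (59, 1)],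
    [(4, 1), (5, 1), (9, 1), (17, 1), (20, 1), (29, 1), (44, 1), (47, 1), (48, 1), (49, 1), (58, 1)],
    [(15, 1), (51, 1)],
    [(4, 1), (5, 1), (9, 1), (15, 1), (17, 1), (20, 1), (29, 1), (44, 1), (47, 1), (48, 1), (49, 1), (58, 1), (62, 1)],
    [(4, 1), (6, 1), (7, 1), (14, 1), (16, 1), (20, 1), (29, 1), (44, 1), (47, 1), (48, 1), (49, 1), (59, 1), (63, 1)],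
    [(0, 1), (8, 1), (21, 1), (67, 1)],
    [(2, 1), (4, 1), (5, 1), (17, 1)],
    [(1, 1), (4, 1), (6, 1), (16, 1)],
    [(3, 1), (8, 1), (21, 1)],
    [(7, 1), (9, 1), (20, 1), (29, 1), (44, 1), (47, 1), (48, 1), (49, 1)],
    [],
    [],
    [],
    [],
    [(4, 1), (6, 1), (8, 1), (9, 1), (11, 1), (19, 1), (20, 1), (23, 1), (24, 1), (28, 1), (29, 1), (34, 1), (37, 1), (41, 1), (42, 1), (43, 1), (44, 1), (46, 1), (47, 1), (49, 1), (64, 1), (68, 1)],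
    [(4, 1), (5, 1), (8, 1), (10, 1), (16, 1), (17, 1), (23, 1), (30, 1), (33, 1), (34, 1), (42, 1), (45, 1), (46, 1), (48, 1), (49, 1), (65, 1), (68, 1), (69, 1)],
    [(4, 1), (9, 1), (17, 1), (20, 1), (29, 1), (44, 1), (47, 1), (48, 1), (49, 1)],
    [(4, 1), (7, 1), (16, 1), (20, 1), (29, 1), (44, 1), (47, 1), (48, 1), (49, 1)],
    [(9, 1), (11, 1), (17, 1), (18, 1), (19, 1), (20, 1), (29, 1), (44, 1), (47, 1), (48, 1), (49, 1)],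
    [(4, 1), (7, 1), (17, 1), (19, 1)],
    [(8, 1), (21, 1), (22, 1), (67, 1)],
    [],
    [(9, 1), (10, 1), (11, 1), (16, 1), (17, 1), (19, 1), (20, 1), (23, 1), (29, 1), (30, 1), (37, 1), (42, 1), (43, 1), (44, 1), (45, 1), (47, 1), (48, 1), (69, 1)],
    [(5, 1), (6, 1), (8, 1), (10, 1), (16, 1), (17, 1), (28, 1), (30, 1), (33, 1), (34, 1), (45, 1), (46, 1), (48, 1), (49, 1), (68, 1), (69, 1)],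
    [(10, 1), (11, 1), (16, 1), (19, 1), (23, 1), (24, 1), (26, 1), (30, 1), (37, 1), (42, 1), (43, 1), (45, 1), (49, 1), (69, 1)],
    [(7, 1), (16, 1), (20, 1), (23, 1), (27, 1), (29, 1), (44, 1), (47, 1), (48, 1), (49, 1)],
    [(29, 1), (44, 1), (47, 1), (48, 1), (49, 1)],
    [(21, 1)],
    [(17, 1), (19, 1)],
    [(7, 1), (10, 1), (11, 1), (16, 1), (17, 1), (23, 1), (24, 1), (30, 1), (37, 1), (40, 1), (42, 1), (43, 1), (45, 1), (49, 1), (69, 1)],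
    [(4, 1), (5, 1), (8, 1), (10, 1), (16, 1), (19, 1), (23, 1), (30, 1), (33, 1), (34, 1), (42, 1), (44, 1), (45, 1), (46, 1), (49, 1), (68, 1), (69, 1)],
    [(9, 1), (19, 1), (20, 1), (24, 1), (29, 1), (41, 1), (44, 1), (47, 1), (48, 1), (49, 1)],
    [(9, 1), (19, 1), (20, 1), (24, 1), (29, 1), (41, 1), (44, 1), (46, 1), (47, 1), (49, 1)],
    [(9, 1), (17, 1), (20, 1), (24, 1), (29, 1), (35, 1), (41, 1), (44, 1), (46, 1), (47, 1), (48, 1), (49, 1)],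
    [(4, 1), (6, 1), (9, 1), (16, 1), (17, 1), (21, 1), (24, 1), (28, 1), (34, 1), (36, 1), (41, 1), (43, 1), (45, 1), (46, 1), (48, 1)],
    [(8, 1), (10, 1), (21, 1)],
    [(7, 1), (9, 1), (17, 1), (19, 1)],
    [(16, 1), (17, 1), (19, 1), (20, 1), (23, 1), (29, 1), (40, 1), (44, 1), (47, 1), (48, 1), (49, 1)],
    [(9, 1), (16, 1), (17, 1), (19, 1), (20, 1), (23, 1), (29, 1), (42, 1), (44, 1), (47, 1), (48, 1), (49, 1)],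
    [(4, 1), (6, 1), (7, 1), (8, 1), (9, 1), (10, 1), (16, 1), (19, 1), (24, 1), (28, 1), (30, 1), (34, 1), (41, 1), (45, 1), (46, 1), (47, 1), (48, 1), (68, 1), (69, 1)],
    [(9, 1), (16, 1), (17, 1), (19, 1), (20, 1), (23, 1), (29, 1), (42, 1), (44, 1), (45, 1), (47, 1), (48, 1)],
    [(4, 1), (6, 1), (7, 1), (8, 1), (10, 1), (16, 1), (17, 1), (21, 1), (24, 1), (28, 1), (30, 1), (31, 1), (41, 1), (43, 1), (45, 1), (46, 1), (49, 1)],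
    [(7, 1), (16, 1), (20, 1), (23, 1), (29, 1), (32, 1), (42, 1), (44, 1), (45, 1), (47, 1), (48, 1), (49, 1)],
    [(7, 1), (11, 1), (17, 1), (19, 1)],
    [(5, 1), (6, 1), (8, 1), (9, 1), (10, 1), (11, 1), (16, 1), (18, 1), (19, 1), (20, 1), (25, 1), (28, 1), (29, 1), (30, 1), (33, 1), (34, 1), (44, 1), (45, 1), (46, 1), (47, 1), (68, 1), (69, 1)],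
    [(4, 1), (6, 1), (8, 1), (9, 1), (10, 1), (11, 1), (16, 1), (17, 1), (19, 1), (20, 1), (21, 1), (28, 1), (29, 1), (30, 1), (43, 1), (44, 1), (45, 1), (47, 1), (48, 1)],
    [(4, 1), (6, 1), (9, 1), (11, 1), (19, 1), (20, 1), (21, 1), (23, 1), (24, 1), (28, 1), (29, 1), (34, 1), (41, 1), (42, 1), (43, 1), (44, 1), (46, 1), (47, 1), (49, 1)],
    [(8, 1), (21, 1), (37, 1)],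
    [(38, 1)],
    [(39, 1)],
    [(40, 1)],
    [(4, 1), (6, 1), (7, 1), (17, 1), (19, 1), (23, 1), (28, 1), (42, 1)],
    [(4, 1), (5, 1), (7, 1), (17, 1), (19, 1), (24, 1), (33, 1), (41, 1)],
    [(4, 1), (6, 1), (7, 1), (17, 1), (19, 1), (23, 1), (28, 1), (42, 1), (43, 1)],
    [(9, 1), (17, 1), (20, 1), (24, 1), (29, 1), (41, 1), (44, 1), (46, 1), (47, 1), (48, 1), (49, 1)],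
    [(7, 1), (16, 1), (20, 1), (23, 1), (29, 1), (42, 1), (44, 1), (45, 1), (47, 1), (48, 1), (49, 1)],
    [(4, 1), (6, 1), (7, 1), (13, 1), (16, 1), (20, 1), (29, 1), (44, 1), (47, 1), (48, 1), (49, 1), (59, 1)],
    [(4, 1), (5, 1), (9, 1), (12, 1), (17, 1), (20, 1), (29, 1), (44, 1), (47, 1), (48, 1), (49, 1), (58, 1)],
    [(9, 1), (11, 1), (17, 1), (18, 1), (19, 1), (20, 1), (29, 1), (44, 1), (47, 1), (48, 1), (49, 1), (60, 1)],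
    [],
    [],
    [(9, 1), (11, 1), (17, 1), (18, 1), (19, 1), (20, 1), (29, 1), (44, 1), (47, 1), (48, 1), (49, 1), (50, 1), (51, 1), (60, 1)],
    [(14, 1), (15, 1), (51, 1)],
    [],
    [(4, 1), (6, 1), (7, 1), (16, 1), (20, 1), (29, 1), (44, 1), (47, 1), (48, 1), (49, 1), (54, 1), (59, 1)],
    [(51, 1)],
    [(4, 1), (5, 1), (9, 1), (17, 1), (20, 1), (29, 1), (44, 1), (47, 1), (48, 1), (49, 1), (52, 1), (58, 1)],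
    [(9, 1), (11, 1), (17, 1), (18, 1), (19, 1), (20, 1), (29, 1), (44, 1), (47, 1), (48, 1), (49, 1), (50, 1), (51, 1), (53, 1), (60, 1)],
    [(15, 1), (51, 1), (55, 1)],
    [(56, 1)],
    [(9, 1), (11, 1), (14, 1), (15, 1), (17, 1), (18, 1), (19, 1), (20, 1), (29, 1), (44, 1), (47, 1), (48, 1), (49, 1), (50, 1), (51, 1), (60, 1), (66, 1)]]

/-- levels for the Sylow subgroup at `2`: coordinate, words -/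
def lev2 : List (ℕ × List (List ℕ)) := [
    (1, [[], [0]]),
    (2, [[], [1], [6], [1, 6]]),
    (6, [[], [3], [7], [3, 7], [11], [3, 11], [7, 11], [3, 7, 11]]),
    (3, [[], [2], [4], [2, 4], [5], [2, 5], [4, 5], [2, 4, 5]]),
    (4, [[], [8], [9], [8, 9]]),
    (5, [[], [10]])]

/-- the elements of the certificate at `3` with inverses -/
def invs3 : List (MB × MB) := [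
    (⟨191, 10, 83, 100, 24, 27, 36, 223⟩, ⟨94, 110, 137, 108, 124, 201, 72, 97⟩),
    (⟨185, 165, 143, 141, 35, 186, 98, 128⟩, ⟨45, 12, 158, 59, 166, 49, 125, 128⟩),
    (⟨255, 250, 83, 115, 114, 150, 195, 18⟩, ⟨24, 127, 27, 169, 255, 12, 156, 187⟩),
    (⟨114, 214, 165, 108, 124, 93, 240, 97⟩, ⟨7, 158, 235, 100, 24, 55, 176, 223⟩),
    (⟨86, 143, 4, 210, 157, 250, 23, 13⟩, ⟨86, 143, 4, 210, 157, 250, 23, 13⟩),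
    (⟨107, 32, 2, 233, 166, 83, 131, 136⟩, ⟨73, 4, 27, 141, 174, 2, 195, 13⟩)]

/-- a conjugator at `3` -/
def conj3_0 : MB := ⟨86, 143, 4, 210, 157, 250, 23, 13⟩

/-- a conjugator at `3` -/
def conj3_1 : MB := ⟨107, 32, 2, 233, 166, 83, 131, 136⟩

/-- certificate at `3` -/
def cert3 : Cert MB where
  n := 4
  σ := [⟨191, 10, 83, 100, 24, 27, 36, 223⟩,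
    ⟨185, 165, 143, 141, 35, 186, 98, 128⟩,
    ⟨255, 250, 83, 115, 114, 150, 195, 18⟩,
    ⟨114, 214, 165, 108, 124, 93, 240, 97⟩]
  rules := [([0, 0, 0], []),
    ([1, 1, 1], []),
    ([2, 2, 2], [3]),
    ([3, 3, 3], []),
    ([1, 0], [0, 1]),
    ([2, 0], [0, 1, 2]),
    ([3, 0], [0, 3]),
    ([2, 1], [1, 2, 3]),
    ([3, 1], [1, 3]),
    ([3, 2], [2, 3])]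
  conjs := [(conj3_0, [0], [0]),
    (conj3_0, [1], [1, 1, 3]),
    (conj3_0, [2], [0, 0, 1, 1, 2, 2]),
    (conj3_0, [3], [3]),
    (conj3_1, [0], [0, 0]),
    (conj3_1, [0, 1, 3, 3], [0, 1, 3, 3]),
    (conj3_1, [0, 1, 3], [0, 0, 1, 3])]
  rows := [(.ovl [2] 0 [], [0, 1, 0, 0, 0, 0]),
    (.ovl [2] 1 [], [0, 0, 0, 1, 0, 0, 0, 0, 0]),
    (.ovl [2] 2 [], [0, 0, 0, 0, 0, 0, 0, 0, 0, 1]),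
    (.ovl [2] 4 [], [0, 0, 0, 0, 0, 0, 1, 0]),
    (.ovl [3] 5 [], [0, 0, 0, 0, 0, 0, 0, 0, 2, 0]),
    (.cnj 0 [2, 2, 2] [3], [2, 1, 1, 0, 2, 0, 0, 2, 0, 2, 0, 0, 0, 2]),
    (.cnj 0 [1, 0] [0, 1], [0, 0, 0, 0, 1, 0, 1, 0, 0, 0, 0, 0]),
    (.cnj 0 [2, 1] [1, 2, 3], [0, 0, 0, 1, 2, 0, 1, 0, 0, 0, 0, 0, 0, 2]),
    (.cnj 4 [4, 4, 4] [], [1, 0, 0, 0, 0, 0, 0, 0, 0, 0, 0, 0, 0, 0, 0])]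
  lam := [[], [0, 0, 0, 0, 0, 1], [], [0, 0, 1]]
  combos := [[(8, 2)],
    [(0, 2)],
    [],
    [(1, 2)],
    [(3, 1), (6, 2)],
    [],
    [(3, 2)],
    [(0, 2), (1, 1), (2, 1), (3, 1), (5, 1), (7, 2), (8, 1)],
    [(4, 1)],
    [(2, 2)]]

end CfsgLib.KnownB.O8mMult
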