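import Cfsg.Agent.Lib.KnownB.O8mMult.Cover
import Cfsg.Agent.Lib.KnownB.O8mMult.CertData
import Cfsg.Agent.Lib.KnownB.Mult.Levels

/-! Codes for the group of the chain and checks of the certificates. -/

set_option autoImplicit false
set_option maxRecDepth 100000
set_option Elab.async false
set_option maxHeartbeats 4000000

namespace CfsgLib.KnownB.O8mMult

open Matrix CfsgLib.KnownB.Mult
open CfsgLib.KnownB.Sp62 (sift)

/-- codes, with a membership test by the chain and a list of inverses -/
def code (invs : List (MB × MB)) : Code Grp MB where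
  rep g x := Rep (g : Iso) x
  mul := mulB
  one := oneB
  eqc := eqB
  okc x := (invs.any fun q => eqB q.1 x && genOK q) && sift codeA pt fin0 levels x
  rep_mul := Rep.mul
  rep_one := rep_one
  eq_iff h h' := (eqB_iff_eq h h').trans Subtype.coe_injective.eq_iff
  exists_rep h := by
    rw [Bool.and_eq_true, List.any_eq_true] at h
    obtain ⟨⟨q, -, hq⟩, hs⟩ := h
    rw [Bool.and_eq_true] at hq
    obtain ⟨g, hg⟩ := exists_rep' hq.2
    exact ⟨⟨g, mem_grp_of_sift (hg.of_eqB hq.1) hs⟩, hg.of_eqB hq.1⟩

/-- image of a vector, evaluated through numbers -/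
def appP (x : MB) (v : I → ZMod 2) : I → ZMod 2 := dv (appB x (enc v))

/-- equality of vectors -/
def eqP (v w : I → ZMod 2) : Bool := decide (v = w)

/-- the action on vectors -/
def ptAct : PtAct Grp (I → ZMod 2) where
  act g v := moves (g : Iso) v
  act_mul g h v := moves_mul (g : Iso) (h : Iso) v
  act_one v := moves_one v

theorem act_eq {g : Grp} {x : MB} (h : Rep (g : Iso) x) (v : I → ZMod 2) : ptAct.act g v = appP x v := by
  show mat (g : Iso) *ᵥ v = _
  rw [h, appP, ← decB_mulVec, dv_enc]

theorem eqP_iff (v w : I → ZMod 2) : eqP v w = true ↔ v = w := by rw [eqP, decide_eq_true_eq]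

theorem cert3_valid : cert3.Valid (code invs3) 3 where
  gen := by decide +kernel
  rel := by decide +kernel
  pc := by decide +kernel
  indep := by decide +kernel
  rows := by decide +kernel
  target := by decide +kernel

theorem cert2_core : cert2.Core (code invs2) 2 where
  gen := by decide +kernel
  rel := by decide +kernel
  pc := by decide +kernel
  rows := by decide +kernel
  target := by decide +kernel

/-- the levels with their base points -/
def pts2 : List ((I → ZMod 2) × List (List ℕ)) := lev2.map fun l => (dv (2 ^ l.1), l.2)

theorem levels2_ok : Cert.levelsOK (code invs2) cert2 appP eqP pts2 [] = true ∧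
    2 ^ cert2.n ≤ (pts2.map fun l => l.2.length).prod := by
  refine ⟨by decide +kernel, by decide +kernel⟩

end CfsgLib.KnownB.O8mMult
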