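import Cfsg.Agent.Lib.KnownB.O8mMult.Base

/-! Checks of the stabiliser chain. -/

set_option autoImplicit false
set_option maxRecDepth 100000
set_option maxHeartbeats 4000000
set_option Elab.async false

namespace CfsgLib.KnownB.O8mMult

open CfsgLib.KnownB.O8Mult (lvlOK chainOK)

theorem lvl0_ok : lvlOK codeA pt fin0 finG lvl0 [lvl1, lvl2, lvl3, lvl4, lvl5, lvl6] = true := by
  decide +kernel

theorem lvl1_ok : lvlOK codeA pt fin0 finG lvl1 [lvl2, lvl3, lvl4, lvl5, lvl6] = true := by decide +kernel

theorem lvl2_ok : lvlOK codeA pt fin0 finG lvl2 [lvl3, lvl4, lvl5, lvl6] = true := by decide +kernel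

theorem lvl3_ok : lvlOK codeA pt fin0 finG lvl3 [lvl4, lvl5, lvl6] = true := by decide +kernel

theorem lvl4_ok : lvlOK codeA pt fin0 finG lvl4 [lvl5, lvl6] = true := by decide +kernel

theorem lvl5_ok : lvlOK codeA pt fin0 finG lvl5 [lvl6] = true := by decide +kernel

theorem lvl6_ok : lvlOK codeA pt fin0 finG lvl6 [] = true := by decide +kernel

theorem fin_ok : chainOK codeA pt fin0 finG [] = true := by decide +kernel

theorem chain_ok : chainOK codeA pt fin0 finG levels = true := by
  simp only [levels, chainOK, Bool.and_eq_true]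
  exact ⟨lvl0_ok, lvl1_ok, lvl2_ok, lvl3_ok, lvl4_ok, lvl5_ok, lvl6_ok,
    by simpa only [chainOK, Bool.and_eq_true] using fin_ok⟩

end CfsgLib.KnownB.O8mMult
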