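import Mathlib
import Cfsg.Prelude.Def_Classical

/-!
Codes for isometries of the eight-dimensional elliptic quadratic space modulo `2`.
-/

set_option autoImplicit false
set_option maxRecDepth 100000

namespace CfsgLib.KnownB.O8mMult

open Matrix

/-- the eight indices -/
abbrev I : Type := (Fin 3 ⊕ Fin 3) ⊕ Fin 2

/-- position of an index -/
def idx : I → ℕ
  | .inl (.inl i) => i
  | .inl (.inr i) => i + 3
  | .inr i => i + 6

theorem idx_lt (i : I) : idx i < 8 := by rcases i with (i | i) | i <;> simp only [idx] <;> omega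

theorem exists_idx : ∀ n < 8, ∃ i : I, idx i = n := by decide +kernel

/-- a bit -/
def bit (v n : ℕ) : ZMod 2 := if v.testBit n then 1 else 0

/-- the vector of a number -/
def dv (v : ℕ) : I → ZMod 2 := fun i => bit v (idx i)

/-- the number of a vector -/
def enc (u : I → ZMod 2) : ℕ :=
  (u (.inl (.inl 0))).val + 2 * ((u (.inl (.inl 1))).val + 2 * ((u (.inl (.inl 2))).val +
    2 * ((u (.inl (.inr 0))).val + 2 * ((u (.inl (.inr 1))).val + 2 * ((u (.inl (.inr 2))).val +
      2 * ((u (.inr 0)).val + 2 * (u (.inr 1)).val))))))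

theorem dv_enc : ∀ u, dv (enc u) = u := by decide +kernel

theorem dv_inj {v w : ℕ} : dv v = dv w ↔ v % 256 = w % 256 := by
  constructor
  · intro h
    refine Nat.eq_of_testBit_eq fun n => ?_
    rw [show (256 : ℕ) = 2 ^ 8 from rfl, Nat.testBit_mod_two_pow, Nat.testBit_mod_two_pow]
    by_cases hn : n < 8
    · obtain ⟨i, rfl⟩ := exists_idx n hn
      have e := congrFun h i
      simp only [dv, bit] at e
      cases hv : v.testBit (idx i) <;> cases hw : w.testBit (idx i) <;> simp_all
    · simp [hn]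
  · intro h
    funext i
    have e := congrArg (fun x => Nat.testBit x (idx i)) h
    simp only [show (256 : ℕ) = 2 ^ 8 from rfl, Nat.testBit_mod_two_pow, idx_lt i, decide_true,
      Bool.true_and] at e
    simp only [dv, bit, e]

/-- eight columns -/
structure MB where
  c0 : ℕ
  c1 : ℕ
  c2 : ℕ
  c3 : ℕ
  c4 : ℕ
  c5 : ℕ
  c6 : ℕ
  c7 : ℕ

/-- a column if a bit is set -/
def sel (v k c : ℕ) : ℕ := cond (v.testBit k) c 0

/-- matrix times vector -/
def appB (a : MB) (v : ℕ) : ℕ :=
  sel v 0 a.c0 ^^^ (sel v 1 a.c1 ^^^ (sel v 2 a.c2 ^^^ (sel v 3 a.c3 ^^^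
    (sel v 4 a.c4 ^^^ (sel v 5 a.c5 ^^^ (sel v 6 a.c6 ^^^ sel v 7 a.c7))))))

/-- product -/
def mulB (a b : MB) : MB :=
  ⟨appB a b.c0, appB a b.c1, appB a b.c2, appB a b.c3, appB a b.c4, appB a b.c5, appB a b.c6, appB a b.c7⟩

/-- identity -/
def oneB : MB := ⟨1, 2, 4, 8, 16, 32, 64, 128⟩

/-- equality -/
def eqB (a b : MB) : Bool :=
  Nat.beq (a.c0 % 256) (b.c0 % 256) && Nat.beq (a.c1 % 256) (b.c1 % 256) &&
    Nat.beq (a.c2 % 256) (b.c2 % 256) && Nat.beq (a.c3 % 256) (b.c3 % 256) &&
    Nat.beq (a.c4 % 256) (b.c4 % 256) && Nat.beq (a.c5 % 256) (b.c5 % 256) &&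
    Nat.beq (a.c6 % 256) (b.c6 % 256) && Nat.beq (a.c7 % 256) (b.c7 % 256)

/-- a column -/
def colB (a : MB) : I → ℕ
  | .inl (.inl i) => ![a.c0, a.c1, a.c2] i
  | .inl (.inr i) => ![a.c3, a.c4, a.c5] i
  | .inr i => ![a.c6, a.c7] i

/-- the matrix -/
def decB (a : MB) : Matrix I I (ZMod 2) := of fun i j => bit (colB a j) (idx i)

theorem bit_xor (x y n : ℕ) : bit (x ^^^ y) n = bit x n + bit y n := by
  simp only [bit, Nat.testBit_xor]
  cases x.testBit n <;> cases y.testBit n <;> decide

theorem bit_sel (v k c n : ℕ) : bit (sel v k c) n = bit c n * bit v k := by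
  cases h : v.testBit k <;> simp [bit, sel, h]

theorem decB_mulVec (a : MB) (v : ℕ) : decB a *ᵥ dv v = dv (appB a v) := by
  funext i
  simp only [dv, appB, bit_xor, bit_sel, mulVec, dotProduct, Fintype.sum_sum_type, Fin.sum_univ_three, Fin.sum_univ_two,
    decB, of_apply, colB, idx]
  simp only [cons_val_zero, cons_val_one, cons_val, Fin.isValue]
  norm_num
  ring

theorem decB_mul (a b : MB) : decB (mulB a b) = decB a * decB b := by
  ext i j
  have h : (decB a * decB b) i j = (decB a *ᵥ dv (colB b j)) i := rfl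
  rw [h, decB_mulVec]
  rcases j with (j | j) | j <;> fin_cases j <;> rfl

theorem decB_one : decB oneB = 1 := by decide +kernel

theorem eqB_iff {a b : MB} : eqB a b = true ↔ decB a = decB b := by
  constructor
  · intro h
    simp only [eqB, Bool.and_eq_true, Nat.beq_eq, ← dv_inj, and_assoc] at h
    obtain ⟨h0, h1, h2, h3, h4, h5, h6, h7⟩ := h
    ext i j
    rcases j with (j | j) | j <;> fin_cases j
    · exact congrFun h0 i
    · exact congrFun h1 i
    · exact congrFun h2 i
    · exact congrFun h3 i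
    · exact congrFun h4 i
    · exact congrFun h5 i
    · exact congrFun h6 i
    · exact congrFun h7 i
  · intro h
    have k : ∀ j : I, dv (colB a j) = dv (colB b j) := fun j =>
      funext fun i => congrFun (congrFun h i) j
    simp only [eqB, Bool.and_eq_true, Nat.beq_eq, ← dv_inj, and_assoc]
    exact ⟨k (.inl (.inl 0)), k (.inl (.inl 1)), k (.inl (.inl 2)), k (.inl (.inr 0)), k (.inl (.inr 1)),
      k (.inl (.inr 2)), k (.inr 0), k (.inr 1)⟩

/-- the quadratic form -/
abbrev Qf : (I → ZMod 2) → ZMod 2 := Cfsg.quadFormMinus 3 (ZMod 2) 1 1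

/-- the isometry group -/
abbrev Iso : Type := ↥(Cfsg.isometryGroup (ZMod 2) Qf)

/-- the matrix of an isometry -/
def mat (g : Iso) : Matrix I I (ZMod 2) := ((g : GL I (ZMod 2)) : Matrix I I (ZMod 2))

theorem mat_mul (g h : Iso) : mat (g * h) = mat g * mat h := rfl

theorem mat_one : mat 1 = 1 := rfl

theorem mat_injective {g h : Iso} (e : mat g = mat h) : g = h := Subtype.ext (Units.ext e)

/-- `g` has code `x` -/
def Rep (g : Iso) (x : MB) : Prop := mat g = decB x

theorem Rep.mul {g h : Iso} {x y : MB} (hg : Rep g x) (hh : Rep h y) : Rep (g * h) (mulB x y) := by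
  rw [Rep, mat_mul, decB_mul, hg, hh]

theorem rep_one : Rep 1 oneB := decB_one.symm

theorem eqB_iff_eq {g h : Iso} {x y : MB} (hg : Rep g x) (hh : Rep h y) : eqB x y = true ↔ g = h := by
  rw [eqB_iff, ← hg, ← hh]
  exact ⟨mat_injective, congrArg mat⟩

theorem Rep.of_eqB {g : Iso} {x y : MB} (hg : Rep g x) (h : eqB x y = true) : Rep g y :=
  hg.trans (eqB_iff.1 h)

/-- the form is preserved -/
def isoOK (a : MB) : Bool :=
  (List.range 256).all fun v => decide (Qf (dv (appB a v)) = Qf (dv v))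

/-- mutually inverse codes of isometries -/
def genOK (q : MB × MB) : Bool :=
  eqB (mulB q.1 q.2) oneB && eqB (mulB q.2 q.1) oneB && isoOK q.1

theorem exists_iso {a b : MB} (h1 : decB a * decB b = 1) (h2 : decB b * decB a = 1) (h : isoOK a = true) :
    ∃ g : Iso, mat g = decB a := by
  have hq : ∀ u, Qf (decB a *ᵥ u) = Qf u := by
    intro u
    rw [← dv_enc u, decB_mulVec]
    have hlt : enc u % 256 < 256 := Nat.mod_lt _ (by norm_num)
    have e := List.all_eq_true.1 h _ (List.mem_range.2 hlt)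
    rw [decide_eq_true_eq, show dv (enc u % 256) = dv (enc u) from dv_inj.2 (Nat.mod_mod _ _),
      ← decB_mulVec, show dv (enc u % 256) = dv (enc u) from dv_inj.2 (Nat.mod_mod _ _), decB_mulVec] at e
    exact e
  exact ⟨⟨⟨_, _, h1, h2⟩, fun u w => hq u⟩, rfl⟩

theorem exists_rep' {q : MB × MB} (h : genOK q = true) : ∃ g : Iso, Rep g q.1 := by
  simp only [genOK, Bool.and_eq_true, eqB_iff, decB_mul, decB_one] at h
  exact exists_iso h.1.1 h.1.2 h.2

theorem dv_xor (x y : ℕ) : dv (x ^^^ y) = dv x + dv y := funext fun i => bit_xor x y (idx i)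

end CfsgLib.KnownB.O8mMult
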