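import Cfsg.Agent.Lib.KnownB.O8mMult.ChainCheck

/-!
The group of the chain: its order is at least `197406720`.
-/

set_option autoImplicit false
set_option maxRecDepth 100000
set_option Elab.async false
set_option maxHeartbeats 4000000

namespace CfsgLib.KnownB.O8mMult

open Matrix CfsgLib.KnownB.Mult
open CfsgLib.KnownB.Sp62 (Lvl Has hof sift ngens evL exists_evL)
open CfsgLib.KnownB.O8Mult (chainOK lvlOK chain_spec has_next)

/-- the group of the chain -/
def Grp : Subgroup Iso := hof codeA lvl0.gens

/-- pairwise different numbers -/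
def nodupN : List ℕ → Bool
  | [] => true
  | a :: l => !l.any (Nat.beq a) && nodupN l

/-- fixing coordinate vectors and separating the representatives -/
def colsOK : List ℕ → List (Lvl MB) → Bool
  | pre, [] => finG.all fun g => pre.all fun j => Nat.beq (pt j g) (2 ^ j % 256)
  | pre, L :: r =>
    (L.gens.all fun g => pre.all fun j => Nat.beq (pt j g) (2 ^ j % 256)) &&
      nodupN (L.trans.map fun t => pt L.b t.1.2) && colsOK (L.b :: pre) r

theorem cols_ok : colsOK [] levels = true := by decide +kernel

theorem gens_ok : (lvl0.gens.all fun g => genData.any fun q => eqB q.1 g && genOK q) = true := by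
  decide +kernel

theorem pairs_ok : ((genData.zip genPairs).all fun q =>
    isoOK q.2.1 && isoOK q.2.2 && eqB (mulB q.2.1 q.2.1) oneB && eqB (mulB q.2.2 q.2.2) oneB &&
      eqB q.1.1 (mulB (mulB q.2.2 q.2.1) (mulB q.2.2 q.2.1))) = true ∧
    genPairs.length = genData.length := by
  refine ⟨by decide +kernel, by decide +kernel⟩

theorem exists_mem_gens {x : MB} (hx : x ∈ lvl0.gens) : ∃ g : Iso, Rep g x := by
  obtain ⟨q, -, hq⟩ := List.any_eq_true.1 (List.all_eq_true.1 gens_ok x hx)
  rw [Bool.and_eq_true] at hq
  obtain ⟨g, hg⟩ := exists_rep' hq.2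
  exact ⟨g, hg.of_eqB hq.1⟩

theorem has_top : Has codeA (ngens finG levels) := fun _ hx => exists_mem_gens hx

theorem mem_grp_of_sift {g : Iso} {x : MB} (hg : Rep g x) (h : sift codeA pt fin0 levels x = true) :
    g ∈ Grp :=
  (chain_spec respects invRespects levels chain_ok has_top).1 g x hg h

/-- the action on vectors -/
def moves (g : Iso) (u : I → ZMod 2) : I → ZMod 2 := mat g *ᵥ u

theorem moves_mul (g h : Iso) (u : I → ZMod 2) : moves (g * h) u = moves g (moves h u) :=
  (mulVec_mulVec _ _ _).symm

theorem moves_one (u : I → ZMod 2) : moves 1 u = u := one_mulVec _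

theorem moves_rep {g : Iso} {x : MB} (h : Rep g x) (b : ℕ) : moves g (dv (2 ^ b)) = dv (pt b x) := by
  rw [moves, h, decB_mulVec, pt]
  exact dv_inj.2 (Nat.mod_mod _ _).symm

theorem fix_of_check {l : List MB} {b : ℕ} (h : ∀ g ∈ l, pt b g = 2 ^ b % 256) :
    ∀ a ∈ hof codeA l, moves a (dv (2 ^ b)) = dv (2 ^ b) := by
  intro a ha
  induction ha using Subgroup.closure_induction with
  | mem a ha =>
    obtain ⟨x, hx, hr⟩ := ha
    rw [moves_rep hr, h x hx]
    exact dv_inj.2 (Nat.mod_mod _ _)
  | one => exact moves_one _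
  | mul x y _ _ hx hy => rw [moves_mul, hy, hx]
  | inv x _ hx => conv_lhs => rw [← hx, ← moves_mul, inv_mul_cancel, moves_one]

theorem cols_fix : ∀ (Ls : List (Lvl MB)) (pre : List ℕ), colsOK pre Ls = true →
    ∀ j ∈ pre, ∀ a ∈ hof codeA (ngens finG Ls), moves a (dv (2 ^ j)) = dv (2 ^ j)
  | [], pre, h, j, hj => by
    simp only [colsOK, List.all_eq_true, Nat.beq_eq] at h
    exact fix_of_check fun g hg => h g hg j hj
  | L :: r, pre, h, j, hj => by
    simp only [colsOK, Bool.and_eq_true, List.all_eq_true, Nat.beq_eq] at h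
    exact fix_of_check fun g hg => h.1.1 g hg j hj

theorem nodupN_nodup : ∀ {l : List ℕ}, nodupN l = true → l.Nodup
  | [], _ => List.nodup_nil
  | a :: l, h => by
    simp only [nodupN, Bool.and_eq_true, Bool.not_eq_true', List.any_eq_false] at h
    exact List.nodup_cons.2 ⟨fun hm => h.1 a hm (Nat.beq_refl a), nodupN_nodup h.2⟩

theorem card_lower : ∀ (Ls : List (Lvl MB)) (pre : List ℕ),
    chainOK codeA pt fin0 finG Ls = true → Has codeA (ngens finG Ls) → colsOK pre Ls = true →
    (Ls.map fun L => L.trans.length).prod ≤ Nat.card (hof codeA (ngens finG Ls))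
  | [], pre, _, _, _ => by simpa using Nat.one_le_iff_ne_zero.2 Nat.card_pos.ne'
  | L :: r, pre, hc, hh, hcol => by
    obtain ⟨hhas, hle⟩ := has_next respects hc hh
    simp only [chainOK, lvlOK, Bool.and_eq_true, List.all_eq_true] at hc
    simp only [colsOK, Bool.and_eq_true] at hcol
    have hrec := card_lower r (L.b :: pre) hc.2 hhas hcol.2
    have hu : ∀ i : Fin L.trans.length, ∃ u ∈ hof codeA L.gens, Rep u L.trans[i].1.2 := by
      intro i
      have hm : L.trans[i] ∈ L.trans := List.getElem_mem i.2
      obtain ⟨u, huH, hur⟩ := exists_evL codeA hh L.trans[i].1.1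
      exact ⟨u, huH, respects _ _ _ hur (hc.1.1.1.1 _ hm).1⟩
    choose u huH hur using hu
    let F : Fin L.trans.length × hof codeA (ngens finG r) → hof codeA L.gens := fun q =>
      ⟨u q.1 * q.2.1, mul_mem (huH q.1) (hle q.2.2)⟩
    have hF : Function.Injective F := by
      rintro ⟨i, a, ha⟩ ⟨j, b, hb⟩ e
      have e' : u i * a = u j * b := congrArg Subtype.val e
      have eb := congrArg (fun g => moves g (dv (2 ^ L.b))) e'
      simp only [moves_mul, cols_fix r _ hcol.2 L.b List.mem_cons_self a ha,
        cols_fix r _ hcol.2 L.b List.mem_cons_self b hb, moves_rep (hur _), dv_inj, pt,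
        Nat.mod_mod] at eb
      have hnd := nodupN_nodup hcol.1.2
      have hij : i = j := Fin.ext (by
        refine (List.Nodup.getElem_inj_iff hnd (hi := by simp) (hj := by simp)).1 ?_
        simpa [pt] using eb)
      subst hij
      exact Prod.ext rfl (Subtype.ext (mul_left_cancel e'))
    rw [List.map_cons, List.prod_cons]
    refine le_trans ?_ (Nat.card_le_card_of_injective F hF)
    rw [Nat.card_prod, Nat.card_fin]
    exact Nat.mul_le_mul_left _ hrec

theorem grp_card_lower : 197406720 ≤ Nat.card Grp := by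
  refine le_trans (le_of_eq ?_) (card_lower levels [] chain_ok has_top cols_ok)
  decide +kernel

end CfsgLib.KnownB.O8mMult
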