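import Cfsg.Agent.Lib.KnownB.O8mMult.Certs
import Cfsg.Agent.Lib.KnownB.Mult.Reduce
import Cfsg.Agent.Lib.Schur.Lift
import Cfsg.Agent.S0288
import Cfsg.Agent.S0294

/-!
The Schur multiplier of `PΩ⁻₈(2)` is trivial.
-/

set_option autoImplicit false
set_option maxRecDepth 100000

namespace CfsgLib.KnownB.O8mMult

open Matrix CfsgLib.KnownB.Mult
open scoped commutatorElement

/-- the commutator subgroup of the isometry group -/
abbrev Om : Subgroup Iso := Cfsg.Omega (ZMod 2) Qf

theorem hab : ∀ z₁ z₂ : ZMod 2, z₁ ^ 2 + 1 * z₁ * z₂ + 1 * z₂ ^ 2 = 0 → z₁ = 0 ∧ z₂ = 0 := by decide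

theorem natCard_iso : Nat.card Iso = 394813440 := by
  have h := Cfsg.Agent.S0288.result (F := ZMod 2) (ZMod.card 2) 4 (by norm_num) 1 1 hab
  rw [show Nat.card Iso = Nat.card (Cfsg.isometryGroup (ZMod 2) (Cfsg.quadFormMinus (4 - 1) (ZMod 2) 1 1))
    from rfl, h]
  norm_num [Finset.prod_range_succ]

theorem natCard_pomega : Nat.card (Cfsg.POmega (ZMod 2) Qf) = 197406720 := by
  have h := Cfsg.Agent.S0294.result (F := ZMod 2) (ZMod.card 2) 4 le_rfl 1 1 hab
  norm_num [Finset.prod_range_succ] at h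
  exact h

theorem gen_img {x : MB} (hx : x ∈ genData.map Prod.fst) {g : Iso} (hg : Rep g x) : g ∈ Om := by
  obtain ⟨q, hq, rfl⟩ := List.mem_map.1 hx
  obtain ⟨k, hk, rfl⟩ := List.getElem_of_mem hq
  obtain ⟨hall, hlen⟩ := pairs_ok
  have hk' : k < (genData.zip genPairs).length := by rw [List.length_zip, hlen, min_self]; exact hk
  have h := List.all_eq_true.1 hall _ (List.getElem_mem hk')
  rw [List.getElem_zip] at h
  generalize genPairs[k]'(by rw [hlen]; exact hk) = ab at h
  simp only [Bool.and_eq_true, eqB_iff, decB_mul, decB_one] at h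
  obtain ⟨⟨⟨⟨ha, hb⟩, ha2⟩, hb2⟩, he⟩ := h
  obtain ⟨a, hae⟩ := exists_iso ha2 ha2 ha
  obtain ⟨b, hbe⟩ := exists_iso hb2 hb2 hb
  have hai : a⁻¹ = a := inv_eq_of_mul_eq_one_right (mat_injective (by rw [mat_mul, hae, ha2, mat_one]))
  have hbi : b⁻¹ = b := inv_eq_of_mul_eq_one_right (mat_injective (by rw [mat_mul, hbe, hb2, mat_one]))
  have e : g = ⁅b, a⁆ := mat_injective (by
    rw [commutatorElement_def, hbi, hai, hg, he, mat_mul, mat_mul, mat_mul, hae, hbe, Matrix.mul_assoc,
      Matrix.mul_assoc, Matrix.mul_assoc])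
  rw [e]
  exact Subgroup.commutator_mem_commutator (Subgroup.mem_top _) (Subgroup.mem_top _)

theorem grp_le : Grp ≤ Om := by
  refine (Subgroup.closure_le _).2 ?_
  rintro x ⟨y, hy, hr⟩
  obtain ⟨q, hq, he⟩ := List.any_eq_true.1 (List.all_eq_true.1 gens_ok y hy)
  rw [Bool.and_eq_true] at he
  obtain ⟨g', hg'⟩ := exists_rep' he.2
  have : x = g' := ((eqB_iff_eq hg' hr).1 he.1).symm
  subst this
  exact gen_img (List.mem_map.2 ⟨q, hq, rfl⟩) hg'

theorem root_check : (eqB (mulB rootB rootInv) oneB &&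
    (List.range 8).all fun i =>
      isoOK (reflData.getD i oneB) &&
      eqB (mulB (reflData.getD i oneB) (reflData.getD i oneB)) oneB &&
      let v := ([rootB.c0, rootB.c1, rootB.c2, rootB.c3, rootB.c4, rootB.c5, rootB.c6, rootB.c7] : List ℕ).getD i 0
      !Nat.beq (v % 256) 0 &&
        ((List.range 256).any fun x => Nat.beq (appB (reflData.getD i oneB) x % 256) ((x ^^^ v) % 256)) &&
        (List.range 256).all fun y => Nat.beq (appB (reflData.getD i oneB) y % 256) (y % 256) ||
          Nat.beq (appB (reflData.getD i oneB) y % 256) ((y ^^^ v) % 256)) = true := by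
  decide +kernel

theorem center_iso : Subgroup.center Iso = ⊥ := by
  refine (Subgroup.eq_bot_iff_forall _).2 fun z hz => ?_
  have h := root_check
  rw [Bool.and_eq_true, List.all_eq_true] at h
  obtain ⟨hinv, hall⟩ := h
  have key : ∀ i < 8, mat z *ᵥ dv (([rootB.c0, rootB.c1, rootB.c2, rootB.c3, rootB.c4, rootB.c5,
      rootB.c6, rootB.c7] : List ℕ).getD i 0) = dv (([rootB.c0, rootB.c1, rootB.c2, rootB.c3, rootB.c4,
      rootB.c5, rootB.c6, rootB.c7] : List ℕ).getD i 0) := by
    intro i hi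
    have h := hall i (List.mem_range.2 hi)
    simp only [Bool.and_eq_true, List.any_eq_true, List.all_eq_true, Bool.or_eq_true, Bool.not_eq_true',
      List.mem_range, eqB_iff, decB_mul, decB_one] at h
    obtain ⟨⟨hiso, h2⟩, ⟨hv0, x, hx, hrx⟩, hally⟩ := h
    obtain ⟨r, hr⟩ := exists_iso h2 h2 hiso
    generalize ([rootB.c0, rootB.c1, rootB.c2, rootB.c3, rootB.c4, rootB.c5,
      rootB.c6, rootB.c7] : List ℕ).getD i 0 = v at hv0 hrx hally
    rw [Nat.beq_eq, ← dv_inj, ← decB_mulVec, ← hr, dv_xor] at hrx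
    have hcom : mat z * mat r = mat r * mat z := by
      rw [← mat_mul, ← mat_mul, Subgroup.mem_center_iff.1 hz r]
    have e1 : mat r *ᵥ (mat z *ᵥ dv x) = mat z *ᵥ dv x + mat z *ᵥ dv v := by
      rw [mulVec_mulVec, ← hcom, ← mulVec_mulVec, hrx, mulVec_add]
    have hlt : enc (mat z *ᵥ dv x) % 256 < 256 := Nat.mod_lt _ (by norm_num)
    have e2 := hally _ hlt
    rw [Nat.beq_eq, Nat.beq_eq, ← dv_inj, ← dv_inj, ← decB_mulVec, ← hr, dv_xor,
      show dv (enc (mat z *ᵥ dv x) % 256) = dv (enc (mat z *ᵥ dv x)) from dv_inj.2 (Nat.mod_mod _ _),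
      dv_enc, e1] at e2
    rcases e2 with e2 | e2
    · exfalso
      rw [add_eq_left] at e2
      have e3 : mat z⁻¹ *ᵥ (mat z *ᵥ dv v) = dv v := by
        rw [mulVec_mulVec, ← mat_mul, inv_mul_cancel, mat_one, one_mulVec]
      rw [e2, mulVec_zero, show (0 : I → ZMod 2) = dv 0 from funext fun i => by simp [dv, bit], dv_inj] at e3
      rw [← Bool.not_eq_true, Nat.beq_eq] at hv0
      exact hv0 e3.symm
    · exact add_left_cancel e2
  rw [eqB_iff, decB_mul, decB_one] at hinv
  refine mat_injective ?_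
  rw [mat_one]
  have hfix : mat z * decB rootB = decB rootB := by
    ext i j
    have e : (mat z * decB rootB) i j = (mat z *ᵥ dv (colB rootB j)) i := rfl
    rw [e]
    rcases j with j | j <;> fin_cases j
    · exact congrFun (key 0 (by norm_num)) i
    · exact congrFun (key 1 (by norm_num)) i
    · exact congrFun (key 2 (by norm_num)) i
    · exact congrFun (key 3 (by norm_num)) i
    · exact congrFun (key 4 (by norm_num)) i
    · exact congrFun (key 5 (by norm_num)) i
    · exact congrFun (key 6 (by norm_num)) i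
    · exact congrFun (key 7 (by norm_num)) i
  calc mat z = mat z * (decB rootB * decB rootInv) := by rw [hinv, Matrix.mul_one]
    _ = 1 := by rw [← Matrix.mul_assoc, hfix, hinv]

theorem omega_facts : Subgroup.center Om = ⊥ ∧ Grp = Om := by
  have h1 := (Subgroup.center Om).card_mul_index
  have hq : (Subgroup.center Om).index = Nat.card (Cfsg.POmega (ZMod 2) Qf) := rfl
  rw [natCard_pomega] at hq
  have h1' : Nat.card (Subgroup.center Om) * 197406720 = Nat.card Om := by rw [← hq]; exact h1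
  have h2 : Nat.card Om ≤ 394813440 := natCard_iso ▸ Subgroup.card_le_card_group Om
  have h3 : 0 < Nat.card (Subgroup.center Om) := Nat.card_pos
  have hc : Nat.card (Subgroup.center Om) = 1 := by
    by_contra hne
    have arith : ∀ c N : ℕ, c * 197406720 = N → N ≤ 394813440 → 0 < c → c ≠ 1 → c = 2 ∧ N = 394813440 := by
      intro c N e1 e2 e3 e4
      omega
    obtain ⟨hc2, h4⟩ := arith _ _ h1' h2 h3 hne
    have htop : Om = ⊤ := Subgroup.eq_top_of_card_eq _ (h4.trans natCard_iso.symm)
    obtain ⟨⟨z, hz⟩, hzne⟩ : ∃ z : Subgroup.center Om, z ≠ 1 := by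
      haveI : Nontrivial (Subgroup.center Om) :=
        Finite.one_lt_card_iff_nontrivial.1 (lt_of_lt_of_eq Nat.one_lt_two hc2.symm)
      exact exists_ne 1
    have hzI : (z : Iso) ∈ Subgroup.center Iso := by
      rw [Subgroup.mem_center_iff]
      intro g
      have hg : g ∈ Om := htop ▸ Subgroup.mem_top g
      exact congrArg Subtype.val (Subgroup.mem_center_iff.1 hz ⟨g, hg⟩)
    rw [center_iso, Subgroup.mem_bot] at hzI
    exact hzne (Subtype.ext (Subtype.ext hzI))
  refine ⟨Subgroup.eq_bot_of_card_eq _ hc, Subgroup.eq_of_le_of_card_ge grp_le ?_⟩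
  have h4 := grp_card_lower
  rw [← h1', hc, one_mul]
  exact h4

theorem natCard_grp : Nat.card Grp = 197406720 := by
  have h := (Subgroup.center Om).card_mul_index
  rw [omega_facts.1, Subgroup.card_bot, one_mul] at h
  rw [omega_facts.2, ← natCard_pomega, ← h]
  show _ = Nat.card (Om ⧸ Subgroup.center Om)
  rw [omega_facts.1]
  rfl

theorem trivial_multiplier_grp : Cfsg.HasCyclicSchurMultiplier Grp 1 := by
  haveI : Finite Grp := Nat.finite_of_card_ne_zero (by rw [natCard_grp]; norm_num)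
  refine hasTrivialMultiplier_of_primeCond fun p hp => ?_
  by_cases h2 : p = 2
  · subst h2
    exact Cert.primeCond_of_notMem cert2_core
      (Cert.notMem_of_levels cert2_core ptAct appP eqP (fun h v => act_eq h v) eqP_iff pts2
        levels2_ok.1 levels2_ok.2)
      (m := 48195) (natCard_grp.trans (by norm_num [cert2])) (by norm_num)
  by_cases h3 : p = 3
  · subst h3
    exact Cert.primeCond cert3_valid (m := 2437120)
      (natCard_grp.trans (by norm_num [cert3])) (by norm_num)
  refine primeCond_of_cyclic default (isCyclic_sylow (p := p) ?_ default)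
  intro hd
  rw [natCard_grp, show (197406720 : ℕ) = 2 ^ 12 * 3 ^ 4 * (5 * 7 * 17) by norm_num] at hd
  have hc : ∀ q k : ℕ, q.Prime → p ≠ q → Nat.Coprime (p ^ 2) (q ^ k) := fun q k hq hne =>
    Nat.Coprime.pow 2 k ((Nat.coprime_primes hp.out hq).2 hne)
  have h595 : p ^ 2 ∣ 5 * 7 * 17 :=
    ((hc 2 12 Nat.prime_two h2).mul_right (hc 3 4 Nat.prime_three h3)).dvd_of_dvd_mul_left hd
  have hsq : Squarefree (5 * 7 * 17) := by
    rw [Nat.squarefree_iff_prime_squarefree]
    intro x hx hxd
    have hle : x * x ≤ 5 * 7 * 17 := Nat.le_of_dvd (by norm_num) hxd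
    have : x ≤ 24 := by nlinarith
    interval_cases x <;> first | (norm_num at hxd; done) | (norm_num at hx)
  exact hp.out.not_isUnit (hsq p (by rwa [← pow_two]))

theorem trivial_multiplier :
    Cfsg.HasCyclicSchurMultiplier (Cfsg.POmega (ZMod 2) (Cfsg.quadFormMinus 3 (ZMod 2) 1 1)) 1 := by
  let q : Grp ≃* Cfsg.POmega (ZMod 2) Qf :=
    (MulEquiv.subgroupCongr omega_facts.2).trans
      ((QuotientGroup.quotientBot (G := Om)).symm.trans
        (QuotientGroup.quotientMulEquivOfEq omega_facts.1.symm))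
  have hker : q.toMonoidHom.ker = ⊥ := (MonoidHom.ker_eq_bot_iff _).2 q.injective
  have hs : Cfsg.IsStemExtension q.toMonoidHom :=
    ⟨q.surjective, hker ▸ bot_le, hker ▸ bot_le⟩
  haveI : Finite Grp := Nat.finite_of_card_ne_zero (by rw [natCard_grp]; norm_num)
  obtain ⟨e⟩ := CfsgLib.Schur.mult_equiv_ker_of_trivial q.toMonoidHom hs trivial_multiplier_grp
  haveI : Subsingleton q.toMonoidHom.ker := by
    rw [hker]
    exact inferInstance
  haveI : Subsingleton (Multiplicative (ZMod 1)) := inferInstanceAs (Subsingleton (ZMod 1))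
  let φ : Multiplicative (ZMod 1) ≃* q.toMonoidHom.ker :=
    { toFun := fun _ => 1
      invFun := fun _ => 1
      left_inv := fun _ => Subsingleton.elim _ _
      right_inv := fun _ => Subsingleton.elim _ _
      map_mul' := fun _ _ => (one_mul 1).symm }
  exact CfsgLib.Schur.hasSchurMultiplier_iff.2 ⟨φ.trans e.symm⟩

end CfsgLib.KnownB.O8mMult
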